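import Groth.Agent.GRingLib.Geometric
import Groth.Agent.GeomRedFibLib.CplMap
import Groth.Agent.NormalLib.CompletionReduced
import Groth.Agent.HenselLib.FiniteLocalProd
import Groth.Agent.HenselLib.Criteria
import Groth.Agent.CompleteLib.TwoIdeals
import Groth.Agent.CohenLib.PSHom
import Mathlib.RingTheory.Localization.Integral

/-!
# Generic formal fibres along finite extensions and localisations
-/

set_option autoImplicit false
set_option linter.style.haveILetI false
set_option synthInstance.maxHeartbeats 400000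
set_option maxHeartbeats 1600000

universe u

open TensorProduct IsLocalRing GeomRedFibLib

namespace GRingLib

noncomputable section

/-- Enough derivations is inherited by localisations. -/
theorem hasDer_localization (p : ℕ) [Fact p.Prime] (A : Type u) [CommRing A] [IsDomain A] [CharP A p]
    (hA : HasDer p A) (M : Submonoid A) (hM : M ≤ nonZeroDivisors A) (A' : Type u) [CommRing A'] [IsDomain A']
    [Algebra A A'] [IsLocalization M A'] : HasDer p A' := by
  classical
  intro U _ _ _ _ hU f hf
  letI : Algebra A U := ((algebraMap A' U).comp (algebraMap A A')).toAlgebra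
  haveI : IsScalarTower A A' U := .of_algebraMap_eq fun _ ↦ rfl
  have hAU : Function.Injective (algebraMap A U) := hU.comp (IsLocalization.injective A' hM)
  haveI : CharP U p := charP_of_injective_ringHom hAU p
  obtain ⟨s, hs⟩ := (inferInstance : Module.Finite A' U).fg_top
  choose m hm using fun x : U ↦
    IsIntegral.exists_multiple_integral_of_isLocalization M x (Algebra.IsIntegral.isIntegral (R := A') x)
  let B := Algebra.adjoin A (s.image fun x ↦ m x • x : Set U)
  haveI : Module.Finite A B := Module.Finite.iff_fg.mpr <| fg_adjoin_of_finite (Finset.finite_toSet _) fun z hz ↦ by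
    obtain ⟨x, -, rfl⟩ := Finset.mem_image.mp (Finset.mem_coe.mp hz)
    exact hm x
  haveI : IsDomain B := inferInstance
  have hsurj : ∀ u : U, ∃ t ∈ M, algebraMap A U t * u ∈ B := by
    intro u
    have hu : u ∈ Submodule.span A' (s : Set U) := hs ▸ Submodule.mem_top
    induction hu using Submodule.span_induction with
    | mem x hx =>
      refine ⟨m x, (m x).2, ?_⟩
      rw [← Algebra.smul_def]
      exact Algebra.subset_adjoin (Finset.mem_coe.mpr (Finset.mem_image_of_mem _ hx))
    | zero => exact ⟨1, one_mem _, by simp⟩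
    | add x y _ _ hx hy =>
      obtain ⟨t, ht, hx⟩ := hx; obtain ⟨t', ht', hy⟩ := hy
      refine ⟨t * t', mul_mem ht ht', ?_⟩
      rw [show algebraMap A U (t * t') * (x + y) =
        algebraMap A U t' * (algebraMap A U t * x) + algebraMap A U t * (algebraMap A U t' * y) by rw [map_mul]; ring]
      exact add_mem (mul_mem (Subalgebra.algebraMap_mem B _) hx) (mul_mem (Subalgebra.algebraMap_mem B _) hy)
    | smul c x _ hx =>
      obtain ⟨t, ht, hx⟩ := hx
      obtain ⟨⟨a, t'⟩, hat⟩ := IsLocalization.surj M c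
      refine ⟨t' * t, mul_mem t'.2 ht, ?_⟩
      rw [show algebraMap A U (t' * t) * c • x = algebraMap A U a * (algebraMap A U t * x) by
        rw [Algebra.smul_def, map_mul, IsScalarTower.algebraMap_apply A A' U t',
          IsScalarTower.algebraMap_apply A A' U a, ← hat, map_mul]
        ring]
      exact mul_mem (Subalgebra.algebraMap_mem B _) hx
  let N := Algebra.algebraMapSubmonoid B M
  haveI : IsLocalization N U := by
    refine ⟨?_, fun u ↦ ?_, fun {x y} h ↦ ⟨1, by rw [show x = y from Subtype.ext h]⟩⟩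
    · rintro ⟨_, t, ht, rfl⟩
      exact (IsLocalization.map_units A' (⟨t, ht⟩ : M)).map (algebraMap A' U)
    · obtain ⟨t, ht, htu⟩ := hsurj u
      exact ⟨⟨⟨_, htu⟩, ⟨algebraMap A B t, t, ht, rfl⟩⟩, mul_comm _ _⟩
  obtain ⟨t, ht, htf⟩ := hsurj f
  have hp1 : p = (p - 1) + 1 := by have := (Fact.out : p.Prime).pos; omega
  let f' : B := ⟨algebraMap A U t * f, htf⟩ * algebraMap A B t ^ (p - 1)
  have hf' : (f' : U) = algebraMap A U t ^ p * f := by
    conv_rhs => rw [hp1, pow_succ]
    show algebraMap A U t * f * algebraMap A U t ^ (p - 1) = _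
    ring
  have ht0 : algebraMap A U t ≠ 0 := (map_ne_zero_iff _ hAU).mpr (nonZeroDivisors.ne_zero (hM ht))
  obtain ⟨D₀, hD₀⟩ := hA B (fun a b h ↦ hAU (congrArg Subtype.val h)) f' fun y hy ↦ by
    let φ : FractionRing B →+* FractionRing U := IsFractionRing.lift
      (show Function.Injective ((algebraMap U (FractionRing U)).comp B.val.toRingHom) from
        (IsFractionRing.injective U (FractionRing U)).comp Subtype.val_injective)
    have h1 : φ y ^ p = algebraMap U (FractionRing U) (algebraMap A U t ^ p * f) := by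
      rw [← map_pow, hy, IsFractionRing.lift_algebraMap, ← hf']
      rfl
    refine hf (φ y / algebraMap U (FractionRing U) (algebraMap A U t)) ?_
    rw [div_pow, h1, map_mul, map_pow, mul_div_cancel_left₀]
    exact pow_ne_zero _ ((map_ne_zero_iff _ (IsFractionRing.injective U _)).mpr ht0)
  obtain ⟨D, hD⟩ := exists_derivation_localization N U D₀
  refine ⟨D, fun h0 ↦ hD₀ (Subtype.ext ?_)⟩
  have h1 := hD f'
  change D (f' : U) = ((D₀ f' : B) : U) at h1
  rw [hf', Derivation.leibniz, h0, smul_zero, zero_add, Derivation.leibniz_pow, nsmul_eq_mul,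
    CharP.cast_eq_zero U p, zero_mul, smul_zero] at h1
  exact h1.symm

/-- The local rings of finite algebras over complete local rings are complete. -/
theorem isAdicComplete_localization_of_finite (C₀ : Type u) [CommRing C₀] [IsLocalRing C₀] [IsNoetherianRing C₀]
    [IsAdicComplete (maximalIdeal C₀) C₀] (H : Type u) [CommRing H] [Algebra C₀ H] [Module.Finite C₀ H]
    (M : Ideal H) [M.IsMaximal] :
    IsAdicComplete (maximalIdeal (Localization.AtPrime M)) (Localization.AtPrime M) := by
  classical
  haveI : IsNoetherianRing H := IsNoetherianRing.of_finite C₀ H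
  haveI := HenselLib.finite_maximalSpectrum (B := H) C₀
  haveI := Fintype.ofFinite (MaximalSpectrum H)
  let J := (maximalIdeal C₀).map (algebraMap C₀ H)
  obtain ⟨hJ, k, hk⟩ := NormalLib.exists_pow_jacobson_le (A := C₀) H
  have hlift : ∀ b : H, b * b - b ∈ Ideal.jacobson (⊥ : Ideal H) →
      ∃ d : H, IsIdempotentElem d ∧ d - b ∈ Ideal.jacobson (⊥ : Ideal H) := by
    intro b hb
    let π : H ⧸ J →+* H ⧸ Ideal.jacobson (⊥ : Ideal H) := Ideal.Quotient.factor hJ
    obtain ⟨e, he, heb⟩ := exists_isIdempotentElem_eq_of_ker_isNilpotent π (fun x hx ↦ by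
      obtain ⟨x, rfl⟩ := Ideal.Quotient.mk_surjective x
      rw [RingHom.mem_ker, Ideal.Quotient.factor_mk, Ideal.Quotient.eq_zero_iff_mem] at hx
      exact ⟨k, by rw [← map_pow, Ideal.Quotient.eq_zero_iff_mem]; exact hk (Ideal.pow_mem_pow hx k)⟩)
      (Ideal.Quotient.mk _ b) ⟨Ideal.Quotient.mk J b, Ideal.Quotient.factor_mk _ _⟩
      (show _ * _ = _ by rw [← map_mul, Ideal.Quotient.eq]; exact hb)
    obtain ⟨d, hd, hde⟩ := (HenselLib.idempotent_bijOn (I := maximalIdeal C₀) (B := H)).surjOn he
    refine ⟨d, hd, ?_⟩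
    rw [← Ideal.Quotient.eq, ← heb, ← hde, Ideal.Quotient.factor_mk]
  obtain ⟨d, hco, -, hself, hloc⟩ := HenselLib.exists_idem_maximal_family hlift
  let M' : MaximalSpectrum H := ⟨M, inferInstance⟩
  haveI := hloc M'
  let S := Localization.AtPrime M
  have hd0 : algebraMap H S (1 - d M') = 0 := by
    have hu : IsUnit (algebraMap H S (d M')) := IsLocalization.map_units S (⟨d M', fun h ↦ by
      have h1 := M.add_mem h (hself M')
      rw [add_sub_cancel] at h1
      exact Ideal.IsPrime.ne_top inferInstance ((Ideal.eq_top_iff_one _).mpr h1)⟩ : M.primeCompl)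
    refine hu.mul_right_eq_zero.mp ?_
    rw [← map_mul, mul_sub, mul_one, (hco.idem M').eq, sub_self, map_zero]
  have hsurj : Function.Surjective (algebraMap H S) := fun z ↦ by
    obtain ⟨⟨b, s⟩, hbs⟩ := IsLocalization.surj M.primeCompl z
    have hle : Ideal.span {1 - d M'} ≤ M := (Ideal.span_singleton_le_iff_mem _).mpr (hself M')
    obtain ⟨t, ht⟩ : IsUnit (Ideal.Quotient.mk (Ideal.span {1 - d M'}) (s : H)) := by
      by_contra hs
      haveI : (M.map (Ideal.Quotient.mk (Ideal.span {1 - d M'}))).IsMaximal :=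
        Ideal.IsMaximal.map_of_surjective_of_ker_le Ideal.Quotient.mk_surjective (by rw [Ideal.mk_ker]; exact hle)
      have h1 : Ideal.Quotient.mk (Ideal.span {1 - d M'}) (s : H) ∈
          maximalIdeal (H ⧸ Ideal.span {1 - d M'}) := hs
      rw [← IsLocalRing.eq_maximalIdeal (I := M.map (Ideal.Quotient.mk (Ideal.span {1 - d M'}))) inferInstance,
        ← Ideal.mem_comap, Ideal.comap_map_mk hle] at h1
      exact s.2 h1
    obtain ⟨t', ht'⟩ := Ideal.Quotient.mk_surjective (↑t⁻¹ : H ⧸ Ideal.span {1 - d M'})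
    have h2 : Ideal.Quotient.mk (Ideal.span {1 - d M'}) ((s : H) * t') = 1 := by
      rw [map_mul, ← ht, ht', Units.mul_inv]
    rw [← map_one (Ideal.Quotient.mk (Ideal.span {1 - d M'})), Ideal.Quotient.eq,
      Ideal.mem_span_singleton] at h2
    obtain ⟨c, hc⟩ := h2
    refine ⟨b * t', ?_⟩
    have h3 : algebraMap H S ((s : H) * t') = 1 := by
      rw [eq_add_of_sub_eq hc, map_add, map_mul, hd0, zero_mul, zero_add, map_one]
    rw [map_mul, ← hbs, mul_assoc, ← map_mul, h3, mul_one]
  haveI : Module.Finite C₀ S := Module.Finite.of_surjective (IsScalarTower.toAlgHom C₀ H S).toLinearMap hsurj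
  haveI : IsNoetherianRing S := IsLocalization.isNoetherianRing M.primeCompl _ inferInstance
  let I := (maximalIdeal C₀).map (algebraMap C₀ S)
  haveI : IsAdicComplete (maximalIdeal C₀) S := CompleteLib.isAdicComplete_of_finite
  haveI : IsAdicComplete I S := (IsAdicComplete.map_algebraMap_iff _ _).2 inferInstance
  haveI : IsAdicComplete ((maximalIdeal S).map (Ideal.Quotient.mk I)) (S ⧸ I) := by
    refine CohenLib.isAdicComplete_of_isNilpotent _ ?_
    obtain ⟨-, j, hj⟩ := NormalLib.exists_pow_jacobson_le (A := C₀) S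
    rw [IsLocalRing.jacobson_eq_maximalIdeal ⊥ bot_ne_top] at hj
    exact ⟨j, by rw [← Ideal.map_pow, Ideal.zero_eq_bot, Ideal.map_eq_bot_iff_le_ker, Ideal.mk_ker]; exact hj⟩
  exact CompleteLib.isAdicComplete_of_quotient I _

variable (A₀ A : Type u) [CommRing A₀] [IsNoetherianRing A₀] [CommRing A] [Algebra A₀ A] [Module.Finite A₀ A]

/-- The completion of a local ring of a finite algebra is a local ring of the completed algebra. -/
theorem exists_algEquiv_cpl (P : Ideal A) [P.IsPrime] :
    ∃ (M : Ideal (A ⊗[A₀] EGA4.Cpl (Localization.AtPrime (P.comap (algebraMap A₀ A))))) (_ : M.IsPrime),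
      Nonempty (Localization.AtPrime M ≃ₐ[A] EGA4.Cpl (Localization.AtPrime P)) := by
  let P₀ := P.comap (algebraMap A₀ A)
  let R := Localization.AtPrime P₀
  let C₀ := EGA4.Cpl R
  let AP := Localization.AtPrime P
  let C := EGA4.Cpl AP
  let H := A ⊗[A₀] C₀
  haveI : IsNoetherianRing A := IsNoetherianRing.of_finite A₀ A
  haveI := isNoetherianRing_cpl R
  haveI := isNoetherianRing_cpl AP
  haveI := AdicRingLib.isAdicComplete_map (C := R) (K := maximalIdeal R) (IsNoetherian.noetherian _)
  haveI := AdicRingLib.isAdicComplete_map (C := AP) (K := maximalIdeal AP) (IsNoetherian.noetherian _)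
  have hC₀ : maximalIdeal C₀ = (maximalIdeal R).map (algebraMap R C₀) := AdicCompletion.maximalIdeal_eq_map
  have hC : maximalIdeal C = (maximalIdeal AP).map (algebraMap AP C) := AdicCompletion.maximalIdeal_eq_map
  haveI : IsAdicComplete (maximalIdeal C₀) C₀ := by rw [hC₀]; infer_instance
  letI : Algebra R AP := (Localization.localRingHom P₀ P (algebraMap A₀ A) rfl).toAlgebra
  haveI : IsLocalHom (algebraMap R AP) :=
    inferInstanceAs (IsLocalHom (Localization.localRingHom P₀ P (algebraMap A₀ A) rfl))
  have hRAP : ∀ a, algebraMap R AP (algebraMap A₀ R a) = algebraMap A AP (algebraMap A₀ A a) :=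
    fun a ↦ Localization.localRingHom_to_map P₀ P _ rfl a
  obtain ⟨j₀, hj₀⟩ := exists_cplMap R AP
  haveI := isLocalHom_cplMap j₀ hj₀
  have hjR : ∀ a, j₀ (algebraMap A₀ C₀ a) = algebraMap A C (algebraMap A₀ A a) := fun a ↦ by
    rw [IsScalarTower.algebraMap_apply A₀ R C₀, ← RingHom.comp_apply j₀, hj₀, RingHom.comp_apply, hRAP,
      ← IsScalarTower.algebraMap_apply]
  let jC : C₀ →ₐ[A₀] C := { j₀ with
    commutes' := fun a ↦ (hjR a).trans (IsScalarTower.algebraMap_apply A₀ A C a).symm }
  let θ₀ : H →ₐ[A] C := Algebra.TensorProduct.lift (Algebra.ofId A C) jC fun _ _ ↦ .all _ _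
  let M := (maximalIdeal C).comap θ₀
  haveI : M.IsPrime := Ideal.IsPrime.comap _
  letI : Algebra C₀ H := Algebra.TensorProduct.rightAlgebra
  haveI : IsScalarTower A₀ C₀ H := .of_algebraMap_eq fun a ↦ by
    show algebraMap A₀ A a ⊗ₜ[A₀] (1 : C₀) = 1 ⊗ₜ algebraMap A₀ C₀ a
    rw [Algebra.algebraMap_eq_smul_one, Algebra.algebraMap_eq_smul_one, ← TensorProduct.smul_tmul]
  haveI : Module.Finite C₀ H := by
    classical
    obtain ⟨s, hs⟩ := (inferInstance : Module.Finite A₀ A).fg_top
    refine ⟨⟨s.image (fun x ↦ x ⊗ₜ[A₀] (1 : C₀)), eq_top_iff.mpr fun z htriv ↦ ?_⟩⟩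
    clear htriv
    induction z using TensorProduct.induction_on with
    | zero => exact zero_mem _
    | add x y hx hy => exact add_mem hx hy
    | tmul a c =>
      have ha : a ∈ Submodule.span A₀ (s : Set A) := hs ▸ Submodule.mem_top
      induction ha using Submodule.span_induction generalizing c with
      | zero => rw [TensorProduct.zero_tmul]; exact zero_mem _
      | add x y _ _ hx hy => rw [TensorProduct.add_tmul]; exact add_mem (hx c) (hy c)
      | smul r x _ hx => rw [TensorProduct.smul_tmul]; exact hx _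
      | mem x hx =>
        have h : x ⊗ₜ[A₀] c = c • (x ⊗ₜ[A₀] (1 : C₀)) := by
          rw [Algebra.smul_def]
          show _ = ((1 : A) ⊗ₜ[A₀] c) * (x ⊗ₜ[A₀] (1 : C₀))
          rw [Algebra.TensorProduct.tmul_mul_tmul, one_mul, mul_one]
        rw [h]
        exact Submodule.smul_mem _ _ (Submodule.subset_span (Finset.mem_image_of_mem _ hx))
  have hθC : ∀ c, θ₀ (algebraMap C₀ H c) = j₀ c := fun c ↦ by
    show θ₀ ((1 : A) ⊗ₜ c) = _
    show Algebra.TensorProduct.lift (Algebra.ofId A C) jC (fun _ _ ↦ .all _ _) ((1 : A) ⊗ₜ c) = _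
    rw [Algebra.TensorProduct.lift_tmul, map_one, one_mul]
    rfl
  haveI : M.IsMaximal := by
    haveI : (M.comap (algebraMap C₀ H)).IsMaximal := by
      have h : M.comap (algebraMap C₀ H) = maximalIdeal C₀ := Ideal.ext fun c ↦ by
        show θ₀ (algebraMap C₀ H c) ∈ maximalIdeal C ↔ _
        rw [hθC, mem_maximalIdeal, mem_maximalIdeal, mem_nonunits_iff, mem_nonunits_iff, isUnit_map_iff]
      rw [h]; infer_instance
    haveI : Algebra.IsIntegral C₀ H := Algebra.IsIntegral.of_finite C₀ H
    exact Ideal.isMaximal_of_isIntegral_of_isMaximal_comap (R := C₀) M inferInstance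
  let S := Localization.AtPrime M
  letI : CommRing (Localization.AtPrime M) := OreLocalization.instCommRing
  haveI := isAdicComplete_localization_of_finite C₀ H M
  have hu : ∀ y : M.primeCompl, IsUnit (θ₀ y) := fun y ↦ notMem_maximalIdeal.mp y.2
  let θ : S →ₐ[A] C := IsLocalization.liftAlgHom (S := S) (f := θ₀) hu
  have hθ : ∀ h, θ (algebraMap H S h) = θ₀ h := fun h ↦ IsLocalization.lift_eq hu h
  have hu' : ∀ a : P.primeCompl, IsUnit (algebraMap A S a) := fun a ↦ by
    rw [IsScalarTower.algebraMap_apply A H S]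
    refine IsLocalization.map_units S (⟨algebraMap A H a, fun h ↦ ?_⟩ : M.primeCompl)
    change θ₀ (algebraMap A H a) ∈ maximalIdeal C at h
    rw [θ₀.commutes, IsScalarTower.algebraMap_apply A AP C] at h
    exact h ((IsLocalization.map_units AP a).map (algebraMap AP C))
  let g : AP →+* S := IsLocalization.lift hu'
  have hg : ∀ a, g (algebraMap A AP a) = algebraMap A S a := IsLocalization.lift_eq hu'
  have hgmax : (maximalIdeal AP).map g ≤ maximalIdeal S := by
    rw [← IsLocalization.AtPrime.map_eq_maximalIdeal P AP, Ideal.map_map, Ideal.map_le_iff_le_comap]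
    intro a ha
    rw [Ideal.mem_comap, RingHom.comp_apply, hg, IsScalarTower.algebraMap_apply A H S,
      IsLocalization.AtPrime.to_map_mem_maximal_iff S M]
    show θ₀ (algebraMap A H a) ∈ maximalIdeal C
    rw [θ₀.commutes, IsScalarTower.algebraMap_apply A AP C, hC]
    exact Ideal.mem_map_of_mem _ ((IsLocalization.AtPrime.to_map_mem_maximal_iff AP P a).mpr ha)
  let σ : C →+* Localization.AtPrime M :=
    CompleteLib.completionLift (B := Localization.AtPrime M) (maximalIdeal AP) (maximalIdeal (Localization.AtPrime M)) g hgmax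
  have hσ : ∀ x, σ (algebraMap AP C x) = g x := CompleteLib.completionLift_algebraMap _ _ _ hgmax
  have hσA : ∀ a, σ (algebraMap A C a) = algebraMap A S a := fun a ↦ by
    rw [IsScalarTower.algebraMap_apply A AP C, hσ, hg]
  have hθA : ∀ x, θ (g x) = algebraMap AP C x := by
    refine fun x ↦ RingHom.congr_fun (IsLocalization.ringHom_ext P.primeCompl (RingHom.ext fun a ↦ ?_) :
      θ.toRingHom.comp g = algebraMap AP C) x
    show θ (g (algebraMap A AP a)) = _
    rw [hg, θ.commutes, IsScalarTower.algebraMap_apply A AP C]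
    rfl
  have hθσ : θ.toRingHom.comp σ = RingHom.id C := by
    refine CompleteLib.completion_hom_ext (maximalIdeal AP) ((maximalIdeal AP).map (algebraMap AP C))
      (IsNoetherian.noetherian _) _ _ ?_ fun x ↦ ?_
    · rw [Ideal.map_le_iff_le_comap]
      intro x hx
      show θ (σ (algebraMap AP C x)) ∈ (maximalIdeal AP).map (algebraMap AP C)
      rw [hσ, hθA]
      exact Ideal.mem_map_of_mem _ hx
    · show θ (σ (algebraMap AP C x)) = _
      rw [hσ, hθA]
      rfl
  haveI := (inferInstance : IsAdicComplete (maximalIdeal (Localization.AtPrime M)) (Localization.AtPrime M)).toIsHausdorff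
  have hσj : σ.comp j₀ = (algebraMap H S).comp (algebraMap C₀ H) := by
    have hR : ∀ a, σ (j₀ (algebraMap A₀ C₀ a)) = algebraMap H S (algebraMap C₀ H (algebraMap A₀ C₀ a)) := fun a ↦ by
      rw [hjR, hσA, IsScalarTower.algebraMap_apply A H S, ← IsScalarTower.algebraMap_apply A₀ C₀ H,
        IsScalarTower.algebraMap_apply A₀ A H]
    have hR' : (σ.comp j₀).comp (algebraMap R C₀) =
        ((algebraMap H S).comp (algebraMap C₀ H)).comp (algebraMap R C₀) :=
      IsLocalization.ringHom_ext P₀.primeCompl (RingHom.ext fun a ↦ by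
        simp only [RingHom.comp_apply, ← IsScalarTower.algebraMap_apply A₀ R C₀]
        exact hR a)
    refine CompleteLib.completion_hom_ext (maximalIdeal R) (maximalIdeal S) (IsNoetherian.noetherian _) _ _ ?_
      fun x ↦ RingHom.congr_fun hR' x
    rw [Ideal.map_le_iff_le_comap]
    intro r hr
    show σ (j₀ (algebraMap R C₀ r)) ∈ maximalIdeal (Localization.AtPrime M)
    rw [← RingHom.comp_apply j₀, hj₀, RingHom.comp_apply, hσ]
    exact hgmax (Ideal.mem_map_of_mem _ (map_nonunit (algebraMap R AP) r hr))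
  have hσθ : σ.comp θ.toRingHom = RingHom.id S := by
    refine IsLocalization.ringHom_ext M.primeCompl (RingHom.ext fun h ↦ ?_)
    show σ (θ (algebraMap H S h)) = algebraMap H S h
    rw [hθ]
    induction h using TensorProduct.induction_on with
    | zero => simp
    | add x y hx hy => simp only [map_add, hx, hy]
    | tmul a c =>
      rw [show a ⊗ₜ[A₀] c = algebraMap A H a * algebraMap C₀ H c by
        show _ = (a ⊗ₜ[A₀] (1 : C₀)) * ((1 : A) ⊗ₜ[A₀] c)
        rw [Algebra.TensorProduct.tmul_mul_tmul, one_mul, mul_one]]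
      rw [map_mul, map_mul, θ₀.commutes, hθC, hσA, map_mul, ← IsScalarTower.algebraMap_apply]
      exact congrArg _ (RingHom.congr_fun hσj c)
  refine ⟨M, inferInstance, ⟨AlgEquiv.ofBijective θ (Function.bijective_iff_has_inverse.mpr
    ⟨σ, fun x ↦ RingHom.congr_fun hσθ x, fun x ↦ RingHom.congr_fun hθσ x⟩)⟩⟩

variable {P : ∀ (R : Type u) [CommRing R], Prop}

/-- A property of local rings passes to localisations. -/
theorem ringP_localization (hP : IsFlatLocalProp P) {R : Type u} [CommRing R] (M : Submonoid R) (S : Type u)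
    [CommRing S] [Algebra R S] [IsLocalization M S] (h : RingP P R) : RingP P S := fun Q _ ↦ by
  haveI : IsLocalization.AtPrime (Localization.AtPrime Q) (Q.comap (algebraMap R S)) :=
    IsLocalization.isLocalization_isLocalization_atPrime_isLocalization M (Localization.AtPrime Q) Q
  exact hP.congr _ _ (IsLocalization.algEquiv (Q.comap (algebraMap R S)).primeCompl
    (Localization.AtPrime (Q.comap (algebraMap R S))) (Localization.AtPrime Q)).toRingEquiv (h _)

/-- The generic fibre condition for a finite extension of fields. -/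
theorem GenReg.ringP {R C : Type u} [CommRing R] [IsDomain R] [CommRing C] [Algebra R C] (h : GenReg R C)
    (L : Type u) [Field L] [Algebra R L] [Algebra (FractionRing R) L] [IsScalarTower R (FractionRing R) L]
    [Module.Finite (FractionRing R) L] : RingP RegLoc (L ⊗[R] C) := by
  obtain ⟨B, _, _, hB⟩ := exists_finite_domain_generic R L
  exact (ringP_fractionRing_iff isFlatLocalProp_regular R C B L).mpr
    ((ringP_fractionRing_iff isFlatLocalProp_regular R C B (FractionRing B)).mp (h B hB))

/-- The fraction field of a localisation of a domain is a fraction field of the domain. -/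
theorem isFractionRing_trans {R : Type u} [CommRing R] [IsDomain R] (M : Submonoid R) (hM : M ≤ nonZeroDivisors R)
    (S K : Type u) [CommRing S] [IsDomain S] [Algebra R S] [IsLocalization M S] [Field K] [Algebra S K]
    [IsFractionRing S K] [Algebra R K] [IsScalarTower R S K] : IsFractionRing R K := by
  haveI : FaithfulSMul R K := (faithfulSMul_iff_algebraMap_injective R K).mpr (by
    rw [IsScalarTower.algebraMap_eq R S K]
    exact (IsFractionRing.injective S K).comp (IsLocalization.injective S hM))
  refine IsFractionRing.of_field R K fun z ↦ ?_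
  obtain ⟨u, v, hv, rfl⟩ := IsFractionRing.div_surjective S z
  obtain ⟨⟨a, s⟩, has⟩ := IsLocalization.surj M u
  obtain ⟨⟨b, t⟩, hbt⟩ := IsLocalization.surj M v
  refine ⟨a * t, b * s, ?_⟩
  have hs : algebraMap R S s ≠ 0 := (IsLocalization.map_units S s).ne_zero
  have ht : algebraMap R S t ≠ 0 := (IsLocalization.map_units S t).ne_zero
  have hv0 : v ≠ 0 := nonZeroDivisors.ne_zero hv
  rw [IsScalarTower.algebraMap_apply R S K, IsScalarTower.algebraMap_apply R S K, div_eq_div_iff
    (IsFractionRing.to_map_ne_zero_of_mem_nonZeroDivisors hv), ← map_mul, ← map_mul]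
  · congr 1
    simp only [map_mul, ← has, ← hbt]
    ring
  · rw [map_ne_zero_iff _ (IsFractionRing.injective S K), map_mul]
    exact mul_ne_zero (hbt ▸ mul_ne_zero hv0 ht) hs

omit [IsNoetherianRing A₀] in
/-- Finiteness of fraction fields through localisations. -/
theorem finite_fractions [IsDomain A₀] [IsDomain A] (hinj : Function.Injective (algebraMap A₀ A))
    (S₀ : Submonoid A₀) (hS₀ : S₀ ≤ nonZeroDivisors A₀) (S : Submonoid A) (hS : S ≤ nonZeroDivisors A)
    (R AP K₀ KA L : Type u) [CommRing R] [IsDomain R] [CommRing AP] [IsDomain AP] [Field K₀] [Field KA] [Field L]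
    [Algebra A₀ R] [IsLocalization S₀ R] [Algebra A AP] [IsLocalization S AP] [Algebra R K₀] [IsFractionRing R K₀]
    [Algebra AP KA] [IsFractionRing AP KA] [Algebra AP L] [Algebra R L] [Algebra K₀ L] [Algebra KA L]
    [IsScalarTower R K₀ L] [IsScalarTower AP KA L] [Module.Finite KA L]
    (hcompat : ∀ a, algebraMap R L (algebraMap A₀ R a) = algebraMap AP L (algebraMap A AP (algebraMap A₀ A a))) :
    Module.Finite K₀ L := by
  letI : Algebra A KA := ((algebraMap AP KA).comp (algebraMap A AP)).toAlgebra
  haveI : IsScalarTower A AP KA := .of_algebraMap_eq fun _ ↦ rfl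
  letI : Algebra A₀ K₀ := ((algebraMap R K₀).comp (algebraMap A₀ R)).toAlgebra
  haveI : IsScalarTower A₀ R K₀ := .of_algebraMap_eq fun _ ↦ rfl
  haveI : IsFractionRing A KA := isFractionRing_trans S hS AP KA
  haveI : IsFractionRing A₀ K₀ := isFractionRing_trans S₀ hS₀ R K₀
  letI : Algebra A₀ KA := ((algebraMap A KA).comp (algebraMap A₀ A)).toAlgebra
  haveI : IsScalarTower A₀ A KA := .of_algebraMap_eq fun _ ↦ rfl
  have hj : Function.Injective (algebraMap A₀ KA) := (IsFractionRing.injective A KA).comp hinj
  letI : Algebra K₀ KA := (IsFractionRing.lift hj).toAlgebra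
  haveI : IsScalarTower A₀ K₀ KA := .of_algebraMap_eq fun a ↦ (IsFractionRing.lift_algebraMap hj a).symm
  haveI : Module.Finite K₀ KA := NormalLib.finiteDimensional_fractionRing (R := A₀) (S := A) _ _ hinj
  haveI : IsScalarTower K₀ KA L :=
    .of_algebraMap_eq' (IsLocalization.ringHom_ext (nonZeroDivisors A₀) (RingHom.ext fun a ↦ by
      simp only [RingHom.comp_apply]
      rw [show algebraMap K₀ L (algebraMap A₀ K₀ a) = algebraMap R L (algebraMap A₀ R a) from
        (IsScalarTower.algebraMap_apply R K₀ L _).symm,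
        ← IsScalarTower.algebraMap_apply A₀ K₀ KA, hcompat]
      exact IsScalarTower.algebraMap_apply AP KA L _))
  exact Module.Finite.trans KA L

omit [IsNoetherianRing A₀] in
/-- The generic fibre condition ascends along finite injective extensions, at the level of localisations. -/
theorem genReg_of_finite_aux [IsDomain A₀] [IsDomain A] (hinj : Function.Injective (algebraMap A₀ A))
    (S₀ : Submonoid A₀) (hS₀ : S₀ ≤ nonZeroDivisors A₀) (S : Submonoid A) (hS : S ≤ nonZeroDivisors A)
    (hS' : ∀ y ∈ S₀, algebraMap A₀ A y ∈ S)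
    (R AP C₀ C : Type u) [CommRing R] [IsDomain R] [CommRing AP] [IsDomain AP] [CommRing C₀] [CommRing C]
    [Algebra A₀ R] [IsLocalization S₀ R] [Algebra A AP] [IsLocalization S AP]
    [Algebra R C₀] [Algebra A₀ C₀] [IsScalarTower A₀ R C₀] [Algebra AP C] [Algebra A C] [IsScalarTower A AP C]
    (M : Ideal (A ⊗[A₀] C₀)) [M.IsPrime] (e : Localization.AtPrime M ≃ₐ[A] C)
    (h : GenReg R C₀) : GenReg AP C := by
  intro B' _ _ _ _ hB'
  let L := FractionRing B'
  haveI : FaithfulSMul AP L := CplExcLib.faithfulSMul_fractionRing AP B' hB'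
  letI := FractionRing.liftAlgebra AP L
  haveI : Module.Finite (FractionRing AP) L := NormalLib.finiteDimensional_fractionRing (R := AP) (S := B') _ _ hB'
  letI : Algebra A L := ((algebraMap AP L).comp (algebraMap A AP)).toAlgebra
  haveI : IsScalarTower A AP L := .of_algebraMap_eq fun _ ↦ rfl
  letI : Algebra A₀ L := ((algebraMap A L).comp (algebraMap A₀ A)).toAlgebra
  haveI : IsScalarTower A₀ A L := .of_algebraMap_eq fun _ ↦ rfl
  have hu : ∀ y : S₀, IsUnit (algebraMap A₀ L y) := fun y ↦
    (IsLocalization.map_units AP (⟨_, hS' y y.2⟩ : S)).map (algebraMap AP L)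
  letI : Algebra R L := (IsLocalization.lift hu).toAlgebra
  haveI : IsScalarTower A₀ R L := .of_algebraMap_eq fun a ↦ (IsLocalization.lift_eq hu a).symm
  have hA₀L : Function.Injective (algebraMap A₀ L) :=
    ((FaithfulSMul.algebraMap_injective AP L).comp (IsLocalization.injective AP hS)).comp hinj
  haveI : FaithfulSMul R L := (faithfulSMul_iff_algebraMap_injective R L).mpr
    ((injective_iff_map_eq_zero _).mpr fun x hx ↦ by
      obtain ⟨⟨a, s⟩, has⟩ := IsLocalization.surj S₀ x
      have h1 : algebraMap A₀ L a = 0 := by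
        rw [IsScalarTower.algebraMap_apply A₀ R L, ← has, map_mul, hx, zero_mul]
      rw [(map_eq_zero_iff _ hA₀L).mp h1, map_zero] at has
      exact (IsLocalization.map_units R s).mul_left_eq_zero.mp has)
  letI := FractionRing.liftAlgebra R L
  haveI : Module.Finite (FractionRing R) L := finite_fractions A₀ A hinj S₀ hS₀ S hS R AP (FractionRing R)
    (FractionRing AP) L fun a ↦ IsLocalization.lift_eq hu a
  have h1 : RingP RegLoc (L ⊗[A₀] C₀) := RingP.congr isFlatLocalProp_regular
    (IsLocalization.algebraTensorEquiv S₀ R L C₀).toRingEquiv (h.ringP L)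
  let H := A ⊗[A₀] C₀
  have h2 : RingP RegLoc (L ⊗[A] H) := RingP.congr isFlatLocalProp_regular
    (Algebra.TensorProduct.cancelBaseChange A₀ A A L C₀).toRingEquiv.symm h1
  let HM := Localization.AtPrime M
  letI : Algebra (L ⊗[A] H) (L ⊗[A] HM) :=
    (Algebra.TensorProduct.map (AlgHom.id A L) (IsScalarTower.toAlgHom A H HM)).toAlgebra
  haveI : IsScalarTower L (L ⊗[A] H) (L ⊗[A] HM) :=
    IsScalarTower.of_algebraMap_eq (R := L) (S := L ⊗[A] H) (A := L ⊗[A] HM) fun x ↦ by simp [RingHom.algebraMap_toAlgebra]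
  haveI := IsLocalization.tensorProduct_tensorProduct_right A L M.primeCompl HM
    (RingHom.ext fun z ↦ show (Algebra.TensorProduct.map (AlgHom.id A L) (IsScalarTower.toAlgHom A H HM)) ((1 : L) ⊗ₜ[A] z) = (1 : L) ⊗ₜ[A] algebraMap H HM z by rw [Algebra.TensorProduct.map_tmul]; rfl)
  have h3 : RingP RegLoc (L ⊗[A] C) := RingP.congr isFlatLocalProp_regular
    (Algebra.TensorProduct.congr (AlgEquiv.refl : L ≃ₐ[A] L) e).toRingEquiv
    (ringP_localization isFlatLocalProp_regular (M.primeCompl.map
      (Algebra.TensorProduct.includeRight (R := A) (A := L) (B := H))) (L ⊗[A] HM) h2)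
  exact RingP.congr isFlatLocalProp_regular (IsLocalization.algebraTensorEquiv S AP L C).toRingEquiv.symm h3

/-- Geometric regularity of generic formal fibres ascends along finite injective extensions. -/
theorem genReg_of_finite [IsDomain A₀] [IsDomain A] (hinj : Function.Injective (algebraMap A₀ A)) (P : Ideal A)
    [P.IsPrime]
    (h : GenReg (Localization.AtPrime (P.comap (algebraMap A₀ A)))
      (EGA4.Cpl (Localization.AtPrime (P.comap (algebraMap A₀ A))))) :
    GenReg (Localization.AtPrime P) (EGA4.Cpl (Localization.AtPrime P)) := by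
  haveI : IsDomain (Localization.AtPrime P) := IsLocalization.isDomain_localization P.primeCompl_le_nonZeroDivisors
  haveI : IsDomain (Localization.AtPrime (P.comap (algebraMap A₀ A))) :=
    IsLocalization.isDomain_localization (P.comap (algebraMap A₀ A)).primeCompl_le_nonZeroDivisors
  obtain ⟨M, _, ⟨e⟩⟩ := exists_algEquiv_cpl A₀ A P
  exact genReg_of_finite_aux A₀ A hinj _ (P.comap (algebraMap A₀ A)).primeCompl_le_nonZeroDivisors _
    P.primeCompl_le_nonZeroDivisors (fun y hy ↦ hy) _ _ _ _ M e h

end

end GRingLib
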