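import Groth.Agent.GRingLib.Transfer
import Groth.Agent.S0581
import Groth.Agent.CommAlgDim.RegularRing
import Groth.Agent.NormalLib.CompleteLocal

/-!
# Complete local rings are G-rings: generic formal fibres
-/

set_option autoImplicit false
set_option linter.style.haveILetI false
set_option synthInstance.maxHeartbeats 400000
set_option maxHeartbeats 800000

universe u

open IsLocalRing GeomRedFibLib

namespace GRingLib

noncomputable section

/-- Localisations of regular domains with enough derivations have geometrically regular generic formal fibres. -/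
theorem genReg_of_regular (A : Type u) [CommRing A] [IsDomain A] [IsRegularRing A]
    (hder : ∀ (p : ℕ) [Fact p.Prime], CharP A p → HasDer p A) (P : Ideal A) [P.IsPrime] :
    GenReg (Localization.AtPrime P) (EGA4.Cpl (Localization.AtPrime P)) := by
  haveI : IsDomain (Localization.AtPrime P) := IsLocalization.isDomain_localization P.primeCompl_le_nonZeroDivisors
  haveI := IsRegularRing.isRegularLocalRing_localization (R := A) P
  refine genReg_of _ (ringP_generic_of_regular _) fun p _ hp ↦ ?_
  haveI : CharP A p := (RingHom.charP_iff _ (IsLocalization.injective (Localization.AtPrime P)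
    P.primeCompl_le_nonZeroDivisors) p).mpr hp
  exact hasDer_localization p A (hder p inferInstance) P.primeCompl P.primeCompl_le_nonZeroDivisors _

/-- A complete Noetherian local domain is finite over a regular domain with a `p`-family in characteristic `p`. -/
theorem exists_regular_base (A : Type u) [CommRing A] [IsDomain A] [IsLocalRing A] [IsNoetherianRing A]
    [IsAdicComplete (maximalIdeal A) A] :
    ∃ (R : Type u) (_ : CommRing R) (f : R →+* A), IsDomain R ∧ IsRegularRing R ∧
      Function.Injective f ∧ f.Finite ∧ ∀ (p : ℕ) [Fact p.Prime], CharP R p → HasPFamily p R := by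
  obtain ⟨Λ, _, n, f, hΛ, hinj, hfin, -⟩ := Groth.Agent.S0581.result A
  obtain ⟨hdom, hreg, hchar⟩ : IsDomain Λ ∧ IsRegularRing Λ ∧ (IsField Λ ∨ CharZero Λ) := by
    rcases hΛ with hF | hC
    · letI := hF.toField
      exact ⟨inferInstance, inferInstance, Or.inl hF⟩
    · have hC' := hC
      obtain ⟨_, _, -, -⟩ := hC'
      obtain ⟨p, -, -, -, hdom, hchar, -⟩ := CohenLib.cohen_props hC
      exact ⟨hdom, inferInstance, Or.inr hchar⟩
  haveI : IsDomain (MvPowerSeries (Fin n) Λ) := NoZeroDivisors.to_isDomain _
  refine ⟨MvPowerSeries (Fin n) Λ, inferInstance, f, inferInstance,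
    CommAlgDim.isRegularRing_mvPowerSeries Λ n, hinj, hfin, fun p _ hp ↦ ?_⟩
  haveI hΛp : CharP Λ p := (RingHom.charP_iff _ (MvPowerSeries.C_injective (σ := Fin n) (R := Λ)) p).mpr hp
  rcases hchar with hF | hchar
  · letI := hF.toField
    exact hasPFamily_powerSeries p Λ n
  · exact absurd (CharP.eq Λ (CharP.ofCharZero Λ) hΛp).symm (Fact.out : p.Prime).ne_zero

/-- Complete Noetherian local domains have geometrically regular generic formal fibres at every prime. -/
theorem genReg_complete (A : Type u) [CommRing A] [IsDomain A] [IsLocalRing A] [IsNoetherianRing A]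
    [IsAdicComplete (maximalIdeal A) A] (P : Ideal A) [P.IsPrime] :
    GenReg (Localization.AtPrime P) (EGA4.Cpl (Localization.AtPrime P)) := by
  obtain ⟨R, _, f, _, _, hinj, hfin, hder⟩ := exists_regular_base A
  letI := f.toAlgebra
  haveI : Module.Finite R A := hfin
  exact genReg_of_finite R A hinj P
    (genReg_of_regular R (fun p _ hp ↦ hasDer_self p R (hder p hp)) _)

end

end GRingLib
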