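import Groth.Agent.GeomRedFibLib.GRing
import Groth.Agent.GeomRedFibLib.GeomApps
import Groth.Agent.GeomRedFibLib.CplLocal
import Mathlib.RingTheory.Flat.Localization
import Mathlib.RingTheory.Localization.BaseChange

/-!
# Regular homomorphisms: composition and localisation
-/

set_option autoImplicit false
set_option linter.style.haveILetI false
set_option synthInstance.maxHeartbeats 400000
set_option maxHeartbeats 800000

universe u

open TensorProduct IsLocalRing GeomRedFibLib CAlg

namespace GRingLib

noncomputable section

/-- Composition of regular homomorphisms of Noetherian rings. -/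
theorem isRegularHom_comp (A B C : Type u) [CommRing A] [CommRing B] [CommRing C] [Algebra A B] [Algebra B C]
    [Algebra A C] [IsScalarTower A B C] [IsNoetherianRing B] [IsNoetherianRing C]
    (hAB : IsRegularHom A B) (hBC : IsRegularHom B C) : IsRegularHom A C := by
  haveI := hAB.1
  haveI := hBC.1
  refine ⟨Module.Flat.trans A B C, fun p _ ↦ ?_⟩
  haveI := isNoetherianRing_fiber A B p
  haveI := isNoetherianRing_fiber A C p
  refine ⟨inferInstance, fun k' _ _ hk ↦ ?_⟩
  haveI := hk
  rw [isRegularRing_finite_bc_iff]
  refine geomRingP_comp isFlatLocalProp_regular A B C p (fun q _ L _ _ hL ↦ ?_) k'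
    ((isRegularRing_finite_bc_iff _ _ _).mp ((hAB.2 p).2 k' hk))
  haveI := isNoetherianRing_fiber B C q
  exact (isRegularRing_finite_bc_iff _ _ _).mp ((hBC.2 q).2 L hL)

/-- Localisations are regular. -/
theorem isRegularHom_of_isLocalization (B C : Type u) [CommRing B] [CommRing C] [Algebra B C] (M : Submonoid B)
    [IsLocalization M C] : IsRegularHom B C := by
  refine ⟨IsLocalization.flat C M, fun q _ ↦ ?_⟩
  have key : ∀ (L : Type u) [Field L] [Algebra B L], IsRegularRing (L ⊗[B] C) := by
    intro L _ _
    haveI : IsLocalization (Algebra.algebraMapSubmonoid L M) (L ⊗[B] C) := inferInstance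
    haveI : IsNoetherianRing (L ⊗[B] C) :=
      IsLocalization.isNoetherianRing (Algebra.algebraMapSubmonoid L M) _ inferInstance
    haveI : IsRegularRing L := inferInstance
    exact (GeomRedFibLib.isRegularRing_iff _).mpr fun Q _ ↦ by
      haveI : IsLocalization.AtPrime (Localization.AtPrime Q) (Q.comap (algebraMap L (L ⊗[B] C))) :=
        IsLocalization.isLocalization_isLocalization_atPrime_isLocalization (Algebra.algebraMapSubmonoid L M)
          (Localization.AtPrime Q) Q
      exact IsRegularLocalRing.of_ringEquiv (R := Localization.AtPrime (Q.comap (algebraMap L (L ⊗[B] C))))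
        (IsLocalization.algEquiv (Q.comap (algebraMap L (L ⊗[B] C))).primeCompl _ _).toRingEquiv
  haveI := key q.ResidueField
  refine ⟨inferInstanceAs (IsNoetherianRing (q.ResidueField ⊗[B] C)), fun k' _ _ _ ↦ ?_⟩
  letI : Algebra B k' := ((algebraMap q.ResidueField k').comp (algebraMap B q.ResidueField)).toAlgebra
  haveI : IsScalarTower B q.ResidueField k' := .of_algebraMap_eq fun _ ↦ rfl
  haveI := key k'
  exact IsRegularRing.of_ringEquiv (R := k' ⊗[B] C)
    (Algebra.TensorProduct.cancelBaseChange B q.ResidueField q.ResidueField k' C).toRingEquiv.symm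

/-- Regularity over a localisation of the base. -/
theorem isRegularHom_of_isLocalization_base (A A' B : Type u) [CommRing A] [CommRing A'] [CommRing B] [Algebra A A']
    [Algebra A B] [Algebra A' B] [IsScalarTower A A' B] (S : Submonoid A) [IsLocalization S A']
    (h : IsRegularHom A B) : IsRegularHom A' B := by
  let e : A' ⊗[A] B ≃ₐ[A'] B := IsLocalization.algebraLid S A' B
  have hs := RingHom.surjectiveOnStalks_of_isLocalization S A'
  haveI := h.1
  exact ⟨flat_baseChange e, fun p' _ ↦
    ⟨fiber_baseChange e _ p' (fun R _ ↦ IsNoetherianRing R)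
        (fun R _ _ _ σ h ↦ @isNoetherianRing_of_ringEquiv R _ _ _ σ h) hs rfl (h.2 (p'.comap (algebraMap A A'))).1,
      (isGeometricallyRegular_fiber_iff e _ p' hs rfl).mpr (h.2 (p'.comap (algebraMap A A'))).2⟩⟩

/-- Regular homomorphisms are regular on local rings. -/
theorem isRegularHom_localRingHom (A B : Type u) [CommRing A] [CommRing B] [Algebra A B] [IsNoetherianRing B]
    (h : IsRegularHom A B) (Q : Ideal B) [Q.IsPrime] (p : Ideal A) [p.IsPrime]
    [Algebra (Localization.AtPrime p) (Localization.AtPrime Q)]
    [IsScalarTower A (Localization.AtPrime p) (Localization.AtPrime Q)] :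
    IsRegularHom (Localization.AtPrime p) (Localization.AtPrime Q) := by
  haveI : IsNoetherianRing (Localization.AtPrime Q) := IsLocalization.isNoetherianRing Q.primeCompl _ inferInstance
  exact isRegularHom_of_isLocalization_base A _ _ p.primeCompl
    (isRegularHom_comp A B (Localization.AtPrime Q) h (isRegularHom_of_isLocalization B _ Q.primeCompl))

/-- A composition over a field. -/
theorem isGeometricallyRegular_comp (K B C : Type u) [Field K] [CommRing B] [CommRing C] [Algebra K B] [Algebra B C]
    [Algebra K C] [IsScalarTower K B C] [IsNoetherianRing B] [IsNoetherianRing C]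
    (hB : IsGeometricallyRegular K B) (hBC : IsRegularHom B C) : IsGeometricallyRegular K C := by
  let p : Ideal K := ⊥
  let σ : K →+* p.ResidueField := algebraMap K p.ResidueField
  haveI : p.IsMaximal := Ideal.bot_isMaximal
  have hσ : Function.Bijective σ := ⟨σ.injective,
    (Ideal.bijective_algebraMap_quotient_residueField p).2.comp Ideal.Quotient.mk_surjective⟩
  intro k' _ _ hk
  haveI := hk
  let j : p.ResidueField →+* k' := (algebraMap K k').comp (RingEquiv.ofBijective σ hσ).symm.toRingHom
  letI := j.toAlgebra
  haveI : IsScalarTower K p.ResidueField k' := .of_algebraMap_eq fun a ↦ by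
    show _ = algebraMap K k' ((RingEquiv.ofBijective σ hσ).symm (σ a))
    rw [show σ a = RingEquiv.ofBijective σ hσ a from rfl, RingEquiv.symm_apply_apply]
  haveI : Module.Finite p.ResidueField k' := Module.Finite.of_restrictScalars_finite K p.ResidueField k'
  haveI := hBC.1
  haveI := isNoetherianRing_finite_bc K k' C
  rw [GeomRedFibLib.isRegularRing_iff]
  refine ringP_comp isFlatLocalProp_regular K B C p k' ((isRegularRing_finite_bc_iff _ _ _).mp (hB k' hk)) fun Q _ ↦ ?_
  let q := Q.comap (algebraMap B (B ⊗[K] k'))
  letI : Algebra q.ResidueField Q.ResidueField :=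
    (Ideal.ResidueField.map q Q (algebraMap B (B ⊗[K] k')) rfl).toAlgebra
  haveI : IsScalarTower B q.ResidueField Q.ResidueField := .of_algebraMap_eq fun b ↦
    (Ideal.ResidueField.map_algebraMap q Q _ rfl b).symm
  obtain ⟨_, ψ, hψ⟩ := exists_surjective_residueField K B p k' Q q
  haveI : Module.Finite q.ResidueField Q.ResidueField := Module.Finite.of_surjective ψ.toLinearMap hψ
  haveI := isNoetherianRing_fiber B C q
  exact RingP.congr isFlatLocalProp_regular
    (Algebra.TensorProduct.cancelBaseChange B q.ResidueField q.ResidueField Q.ResidueField C).toRingEquiv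
    ((isRegularRing_finite_bc_iff _ _ _).mp ((hBC.2 q).2 Q.ResidueField inferInstance))

/-- Regularity is local on the source's local rings at maximal ideals. -/
theorem isRegularHom_of_localRingHom (R Λ : Type u) [CommRing R] [CommRing Λ] [Algebra R Λ] [IsNoetherianRing Λ]
    (h : ∀ (n : Ideal Λ) [n.IsMaximal],
      letI := (Localization.localRingHom (n.comap (algebraMap R Λ)) n (algebraMap R Λ) rfl).toAlgebra
      IsRegularHom (Localization.AtPrime (n.comap (algebraMap R Λ))) (Localization.AtPrime n)) :
    IsRegularHom R Λ := by
  refine ⟨?_, fun p _ ↦ ?_⟩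
  · refine Module.flat_of_isLocalized_maximal (R := R) (S := Λ) (M := Λ) (fun n _ ↦ Localization.AtPrime n)
      (fun n _ ↦ Algebra.linearMap Λ (Localization.AtPrime n)) fun n _ ↦ ?_
    letI := (Localization.localRingHom (n.comap (algebraMap R Λ)) n (algebraMap R Λ) rfl).toAlgebra
    haveI : IsScalarTower R (Localization.AtPrime (n.comap (algebraMap R Λ))) (Localization.AtPrime n) :=
      .of_algebraMap_eq fun x ↦ (IsScalarTower.algebraMap_apply R Λ (Localization.AtPrime n) x).trans
        (Localization.localRingHom_to_map _ n (algebraMap R Λ) rfl x).symm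
    haveI := (h n).1
    haveI : Module.Flat R (Localization.AtPrime (n.comap (algebraMap R Λ))) :=
      IsLocalization.flat _ (n.comap (algebraMap R Λ)).primeCompl
    haveI : Module.Flat R (Localization.AtPrime n) :=
      Module.Flat.trans R (Localization.AtPrime (n.comap (algebraMap R Λ))) _
    infer_instance
  · haveI := isNoetherianRing_fiber R Λ p
    refine ⟨inferInstance, fun k' _ _ hk ↦ ?_⟩
    haveI := hk
    rw [isRegularRing_finite_bc_iff]
    letI : Algebra R k' := ((algebraMap p.ResidueField k').comp (algebraMap R p.ResidueField)).toAlgebra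
    haveI : IsScalarTower R p.ResidueField k' := .of_algebraMap_eq fun _ ↦ rfl
    refine RingP.congr isFlatLocalProp_regular
      (Algebra.TensorProduct.cancelBaseChange R p.ResidueField p.ResidueField k' Λ).toRingEquiv.symm
      (ringP_bc_of_forall_maximal isFlatLocalProp_regular.congr R Λ k' fun n _ ↦ ?_)
    let m := n.comap (algebraMap R Λ)
    let Rm := Localization.AtPrime m
    let Ln := Localization.AtPrime n
    by_cases hpm : p ≤ m
    swap
    · obtain ⟨a, hap, ham⟩ := Set.not_subset.mp hpm
      intro Q _
      exfalso
      have h1 : (1 : k' ⊗[R] Ln) = 0 := by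
        have hu : IsUnit (algebraMap R Ln a) := by
          rw [IsScalarTower.algebraMap_apply R Λ Ln]
          exact IsLocalization.map_units Ln (⟨_, ham⟩ : n.primeCompl)
        obtain ⟨b, hb⟩ := hu.exists_left_inv
        have h0 : algebraMap R k' a = 0 := by
          show algebraMap p.ResidueField k' (algebraMap R p.ResidueField a) = 0
          rw [Ideal.algebraMap_residueField_eq_zero.mpr hap, map_zero]
        rw [Algebra.TensorProduct.one_def, ← hb, mul_comm b, ← Algebra.smul_def, ← TensorProduct.smul_tmul,
          Algebra.smul_def, h0, zero_mul, TensorProduct.zero_tmul]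
      exact Ideal.IsPrime.ne_top inferInstance ((Ideal.eq_top_iff_one Q).mpr (h1 ▸ zero_mem _))
    letI := (Localization.localRingHom m n (algebraMap R Λ) rfl).toAlgebra
    haveI : IsScalarTower R Rm Ln := .of_algebraMap_eq fun x ↦ (IsScalarTower.algebraMap_apply R Λ Ln x).trans
      (Localization.localRingHom_to_map m n (algebraMap R Λ) rfl x).symm
    haveI hp' : (p.map (algebraMap R Rm)).IsPrime :=
      IsLocalization.isPrime_of_isPrime_disjoint m.primeCompl _ p inferInstance
        (Set.disjoint_left.mpr fun x hx hxp ↦ hx (hpm hxp))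
    have hp : p = (p.map (algebraMap R Rm)).comap (algebraMap R Rm) :=
      (IsLocalization.under_map_of_isPrime_disjoint m.primeCompl Rm inferInstance
        (Set.disjoint_left.mpr fun x hx hxp ↦ hx (hpm hxp))).symm
    haveI : IsNoetherianRing Ln := IsLocalization.isNoetherianRing n.primeCompl _ inferInstance
    have hg := (isGeometricallyRegular_fiber_iff (IsLocalization.algebraLid m.primeCompl Rm Ln) p
      (p.map (algebraMap R Rm)) (RingHom.surjectiveOnStalks_of_isLocalization m.primeCompl Rm) hp).mp
      ((h n).2 (p.map (algebraMap R Rm))).2 k' hk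
    haveI := isNoetherianRing_fiber R Ln p
    exact RingP.congr isFlatLocalProp_regular
      (Algebra.TensorProduct.cancelBaseChange R p.ResidueField p.ResidueField k' Ln).toRingEquiv
      ((isRegularRing_finite_bc_iff _ _ _).mp hg)

end

end GRingLib
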