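import Groth.Agent.GRingLib.Poly
import Groth.Agent.GRingLib.RegHom
import Groth.Agent.S0598
import Groth.Agent.S9257
import Groth.Agent.S4704
import Groth.Agent.S4695
import Mathlib.RingTheory.TensorProduct.MvPolynomial
import Mathlib.Algebra.MvPolynomial.Equiv

/-!
# Algebras of finite type over G-rings
-/

set_option autoImplicit false
set_option linter.style.haveILetI false
set_option synthInstance.maxHeartbeats 400000
set_option maxHeartbeats 1600000

universe u

open TensorProduct IsLocalRing GeomRedFibLib CAlg Polynomial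

namespace GRingLib

noncomputable section

/-- Rings under a G-ring with surjective maps of local rings are G-rings. -/
theorem isGRing_of_surjectiveOnStalks (R S : Type u) [CommRing R] [CommRing S] [IsNoetherianRing S] (f : R →+* S)
    (hf : f.SurjectiveOnStalks) (hR : IsGRing R) : IsGRing S := by
  haveI := hR.1
  letI := f.toAlgebra
  refine ⟨inferInstance, fun p' _ ↦ ?_⟩
  let p := p'.comap f
  letI : Algebra (Localization.AtPrime p) (Localization.AtPrime p') := (Localization.localRingHom p p' f rfl).toAlgebra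
  have hs : Function.Surjective (algebraMap (Localization.AtPrime p) (Localization.AtPrime p')) :=
    hf p' inferInstance
  obtain ⟨e⟩ := exists_cplSurjEquiv (Localization.AtPrime p) (Localization.AtPrime p') hs
  haveI := (hR.2 p).1
  have hs' := RingHom.surjectiveOnStalks_of_surjective hs
  exact ⟨flat_baseChange e, fun Q _ ↦
    ⟨fiber_baseChange e _ Q (fun R _ ↦ IsNoetherianRing R)
        (fun R _ _ _ σ h ↦ @isNoetherianRing_of_ringEquiv R _ _ _ σ h) hs' rfl
        ((hR.2 p).2 (Q.comap (algebraMap (Localization.AtPrime p) (Localization.AtPrime p')))).1,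
      (isGeometricallyRegular_fiber_iff e _ Q hs' rfl).mpr
        ((hR.2 p).2 (Q.comap (algebraMap (Localization.AtPrime p) (Localization.AtPrime p')))).2⟩⟩

/-- Homomorphic images of G-rings are G-rings. -/
theorem isGRing_of_surjective (R S : Type u) [CommRing R] [CommRing S] (f : R →+* S) (hf : Function.Surjective f)
    (hR : IsGRing R) : IsGRing S :=
  haveI := hR.1
  haveI : IsNoetherianRing S := isNoetherianRing_of_surjective R S f hf
  isGRing_of_surjectiveOnStalks R S f (RingHom.surjectiveOnStalks_of_surjective hf) hR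

/-- Localisations of G-rings are G-rings. -/
theorem isGRing_of_isLocalization (R S : Type u) [CommRing R] [CommRing S] [Algebra R S] (M : Submonoid R)
    [IsLocalization M S] (hR : IsGRing R) : IsGRing S :=
  haveI := hR.1
  haveI : IsNoetherianRing S := IsLocalization.isNoetherianRing M _ inferInstance
  isGRing_of_surjectiveOnStalks R S (algebraMap R S) (RingHom.surjectiveOnStalks_of_isLocalization M S) hR

/-- The generic fibre condition is carried by ring isomorphisms. -/
theorem genReg_of_ringEquiv {B A : Type u} [CommRing B] [IsDomain B] [IsNoetherianRing B] [CommRing A] [IsDomain A]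
    (e : B ≃+* A) (P : Ideal A) [P.IsPrime]
    (h : GenReg (Localization.AtPrime (P.comap e.toRingHom)) (EGA4.Cpl (Localization.AtPrime (P.comap e.toRingHom)))) :
    GenReg (Localization.AtPrime P) (EGA4.Cpl (Localization.AtPrime P)) := by
  letI := e.toRingHom.toAlgebra
  haveI : Module.Finite B A := Module.Finite.of_surjective (Algebra.linearMap B A) e.surjective
  exact genReg_of_finite B A e.injective P h

/-- Polynomial rings over complete local rings are G-rings. -/
theorem isGRing_polynomial_complete (A : Type u) [CommRing A] [IsLocalRing A] [IsNoetherianRing A]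
    [IsAdicComplete (maximalIdeal A) A] : IsGRing A[X] := by
  refine (Groth.Agent.S9257.result A[X]).mpr fun r _ P _ ↦ ?_
  let a := r.comap (C : A →+* A[X])
  haveI : IsLocalRing (A ⧸ a) := IsLocalRing.of_surjective' (Ideal.Quotient.mk a) Ideal.Quotient.mk_surjective
  haveI := NormalLib.isAdicComplete_quotient_local (R := A) a
  let φ : A[X] →+* (A ⧸ a)[X] := mapRingHom (Ideal.Quotient.mk a)
  have hφ : Function.Surjective φ := map_surjective _ Ideal.Quotient.mk_surjective
  have hker : RingHom.ker φ ≤ r := by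
    rw [ker_mapRingHom, Ideal.mk_ker]
    exact Ideal.map_le_iff_le_comap.mpr le_rfl
  let r' := r.map φ
  haveI : r'.IsPrime := Ideal.map_isPrime_of_surjective hφ hker
  have hcomap : r'.comap φ = r := by
    rw [Ideal.comap_map_of_surjective _ hφ, ← RingHom.ker_eq_comap_bot, sup_eq_left.mpr hker]
  have hr' : r'.comap (C : (A ⧸ a) →+* (A ⧸ a)[X]) = ⊥ := by
    refine eq_bot_iff.mpr fun x hx ↦ ?_
    obtain ⟨x, rfl⟩ := Ideal.Quotient.mk_surjective x
    rw [Ideal.mem_bot, Ideal.Quotient.eq_zero_iff_mem]
    show C x ∈ r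
    rw [← hcomap, Ideal.mem_comap, show φ (C x) = C (Ideal.Quotient.mk a x) from Polynomial.map_C _]
    exact hx
  let ψ : (A[X] ⧸ r) →+* (A ⧸ a)[X] ⧸ r' := Ideal.quotientMap r' φ hcomap.ge
  have hψ : Function.Bijective ψ :=
    ⟨Ideal.quotientMap_injective' hcomap.le, Ideal.quotientMap_surjective hφ⟩
  let e := RingEquiv.ofBijective ψ hψ
  haveI : IsDomain (Localization.AtPrime P) := IsLocalization.isDomain_localization P.primeCompl_le_nonZeroDivisors
  exact isGeometricallyRegular_of_genReg _
    (genReg_of_ringEquiv e.symm P (genReg_poly_complete (A ⧸ a) r' hr' _))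

/-- The polynomial ring over a G-ring is a G-ring. -/
theorem isGRing_polynomial (R : Type u) [CommRing R] (hR : IsGRing R) : IsGRing R[X] := by
  haveI := hR.1
  refine ⟨inferInstance, fun q _ ↦ ?_⟩
  let p := q.comap (C : R →+* R[X])
  let Rp := Localization.AtPrime p
  let Ah := EGA4.Cpl Rp
  haveI := isNoetherianRing_cpl Rp
  haveI := faithfullyFlat_hat Rp
  haveI := AdicRingLib.isAdicComplete_map (C := Rp) (K := maximalIdeal Rp) (IsNoetherian.noetherian _)
  haveI : IsAdicComplete (maximalIdeal Ah) Ah := by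
    rw [AdicCompletion.maximalIdeal_eq_map]; infer_instance
  letI : Algebra R[X] Ah[X] := (mapRingHom (algebraMap R Ah)).toAlgebra
  letI : Algebra R[X] Rp[X] := (mapRingHom (algebraMap R Rp)).toAlgebra
  letI : Algebra Rp[X] Ah[X] := (mapRingHom (algebraMap Rp Ah)).toAlgebra
  haveI : IsScalarTower R[X] Rp[X] Ah[X] := .of_algebraMap_eq' (by
    show mapRingHom (algebraMap R Ah) = (mapRingHom (algebraMap Rp Ah)).comp (mapRingHom (algebraMap R Rp))
    rw [mapRingHom_comp, ← IsScalarTower.algebraMap_eq])
  -- regularity of `R[X] → Ah[X]`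
  have hA : IsRegularHom R Ah := isRegularHom_comp R Rp Ah (isRegularHom_of_isLocalization R Rp p.primeCompl) (hR.2 p)
  haveI := hA.1
  let e : R[X] ⊗[R] Ah ≃ₐ[R[X]] Ah[X] := Algebra.IsPushout.equiv R R[X] Ah Ah[X]
  have hB := (Groth.Agent.S4695.result R Ah R[X] (Or.inr inferInstance)).1 hA
  haveI := hB.1
  have hreg : IsRegularHom R[X] Ah[X] := by
    refine ⟨Module.Flat.of_linearEquiv e.symm.toLinearEquiv, fun Q _ ↦ ?_⟩
    let eQ : R[X] ⊗[R[X]] (R[X] ⊗[R] Ah) ≃ₐ[R[X]] Ah[X] :=
      (Algebra.TensorProduct.lid R[X] (R[X] ⊗[R] Ah)).trans e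
    haveI := isNoetherianRing_fiber R[X] Ah[X] Q
    exact ⟨inferInstance, (isGeometricallyRegular_fiber_iff eQ Q Q
      (RingHom.surjectiveOnStalks_of_surjective Function.surjective_id) (Ideal.comap_id Q).symm).mpr (hB.2 Q).2⟩
  -- a prime over `q`
  let M := Submonoid.map (C : R →+* R[X]) p.primeCompl
  haveI : IsLocalization M Rp[X] := Polynomial.isLocalization p.primeCompl Rp
  have hd : Disjoint (M : Set R[X]) (q : Set R[X]) := Set.disjoint_left.mpr (by
    rintro _ ⟨x, hx, rfl⟩ hxq
    exact hx hxq)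
  let q₁ := q.map (algebraMap R[X] Rp[X])
  haveI : q₁.IsPrime := IsLocalization.isPrime_of_isPrime_disjoint M _ q inferInstance hd
  let e' := Algebra.IsPushout.equiv Rp Rp[X] Ah Ah[X]
  obtain ⟨⟨Q, hQ⟩, hQq⟩ : ∃ Q : PrimeSpectrum Ah[X], PrimeSpectrum.comap (algebraMap Rp[X] Ah[X]) Q = ⟨q₁, inferInstance⟩ := by
    obtain ⟨Q₀, hQ₀⟩ := PrimeSpectrum.comap_surjective_of_faithfullyFlat (A := Rp[X]) (B := Rp[X] ⊗[Rp] Ah)
      ⟨q₁, inferInstance⟩
    refine ⟨PrimeSpectrum.comap (e'.symm : Ah[X] →+* Rp[X] ⊗[Rp] Ah) Q₀, PrimeSpectrum.ext (Ideal.ext fun x ↦ ?_)⟩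
    rw [← hQ₀]
    show e'.symm (algebraMap Rp[X] Ah[X] x) ∈ Q₀.asIdeal ↔ algebraMap Rp[X] (Rp[X] ⊗[Rp] Ah) x ∈ Q₀.asIdeal
    rw [e'.symm.commutes]
  haveI := hQ
  have hQq' : q = Q.comap (algebraMap R[X] Ah[X]) := by
    rw [IsScalarTower.algebraMap_eq R[X] Rp[X] Ah[X], ← Ideal.comap_comap,
      show Q.comap (algebraMap Rp[X] Ah[X]) = q₁ from congrArg PrimeSpectrum.asIdeal hQq]
    exact (IsLocalization.under_map_of_isPrime_disjoint M Rp[X] inferInstance hd).symm
  letI : Algebra (Localization.AtPrime q) (Localization.AtPrime Q) :=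
    (Localization.localRingHom q Q (algebraMap R[X] Ah[X]) hQq').toAlgebra
  haveI : IsLocalHom (algebraMap (Localization.AtPrime q) (Localization.AtPrime Q)) :=
    inferInstanceAs (IsLocalHom (Localization.localRingHom q Q (algebraMap R[X] Ah[X]) hQq'))
  haveI : IsScalarTower R[X] (Localization.AtPrime q) (Localization.AtPrime Q) := .of_algebraMap_eq fun x ↦
    (IsScalarTower.algebraMap_apply R[X] Ah[X] (Localization.AtPrime Q) x).trans
      (Localization.localRingHom_to_map q Q (algebraMap R[X] Ah[X]) hQq' x).symm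
  exact Groth.Agent.S4704.result _ _ (isRegularHom_localRingHom R[X] Ah[X] hreg Q q)
    ((isGRing_polynomial_complete Ah).2 Q)

/-- Multivariate polynomial rings over G-rings are G-rings. -/
theorem isGRing_mvPolynomial (R : Type u) [CommRing R] (hR : IsGRing R) :
    ∀ m : ℕ, IsGRing (MvPolynomial (Fin m) R)
  | 0 => isGRing_of_surjective R _ (MvPolynomial.isEmptyAlgEquiv R (Fin 0)).symm.toRingEquiv.toRingHom
      (RingEquiv.surjective _) hR
  | m + 1 => isGRing_of_surjective _ _ (MvPolynomial.finSuccEquiv R m).symm.toRingEquiv.toRingHom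
      (RingEquiv.surjective _) (isGRing_polynomial _ (isGRing_mvPolynomial R hR m))

/-- Algebras of finite type over G-rings are G-rings. -/
theorem isGRing_of_finiteType (R : Type u) [CommRing R] (hR : IsGRing R) (S : Type u) [CommRing S] [Algebra R S]
    [Algebra.FiniteType R S] : IsGRing S := by
  obtain ⟨n, f, hf⟩ := Algebra.FiniteType.iff_quotient_mvPolynomial''.mp (inferInstance : Algebra.FiniteType R S)
  exact isGRing_of_surjective _ _ f.toRingHom hf (isGRing_mvPolynomial R hR n)

end

end GRingLib
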