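import Groth.Agent.CommAlgDim.Regular
import Groth.Agent.CohenLib.RegularField
import Groth.Agent.GeomRedFibLib.LocalPropInst
import Groth.Agent.AdicRingLib.Completion
import Mathlib.RingTheory.Derivation.MapCoeffs
import Mathlib.RingTheory.AdicCompletion.Algebra
import Mathlib.Algebra.TrivSqZeroExt.Basic

/-!
# Derivations and the regularity of hypersurfaces
-/

set_option autoImplicit false
set_option linter.style.haveILetI false
set_option maxHeartbeats 800000

universe u

open Polynomial IsLocalRing GeomRedFibLib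

namespace GRingLib

noncomputable section

/-- A derivation extends to every adic completion. -/
theorem exists_derivation_completion (A : Type u) [CommRing A] (I : Ideal A) (D : Derivation ℤ A A) :
    ∃ Dh : Derivation ℤ (AdicCompletion I A) (AdicCompletion I A),
      ∀ a : A, Dh (algebraMap A (AdicCompletion I A) a) = algebraMap A (AdicCompletion I A) (D a) := by
  classical
  have htop : ∀ n, (I ^ n • ⊤ : Submodule A A) = I ^ n := fun n ↦ by rw [smul_eq_mul, Ideal.mul_top]
  have hD : ∀ (n : ℕ) (a : A), a ∈ I ^ (n + 1) → D a ∈ I ^ n := by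
    intro n
    induction n with
    | zero => exact fun a _ ↦ by simp
    | succ n ih =>
      intro a ha
      rw [pow_succ'] at ha
      induction ha using Submodule.mul_induction_on' with
      | mem_mul_mem b hb c hc =>
        rw [D.leibniz, smul_eq_mul, smul_eq_mul]
        refine add_mem ?_ (Ideal.mul_mem_right _ _ hc)
        rw [pow_succ']
        exact Ideal.mul_mem_mul hb (ih c hc)
      | add b _ c _ hb hc => rw [map_add]; exact add_mem hb hc
  choose rep hrep using fun (x : AdicCompletion I A) (n : ℕ) ↦ Submodule.mkQ_surjective _ (x.1 n)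
  have key : ∀ (n : ℕ) (a b : A), Submodule.mkQ (I ^ (n + 1) • ⊤ : Submodule A A) a = Submodule.mkQ _ b →
      Submodule.mkQ (I ^ n • ⊤ : Submodule A A) (D a) = Submodule.mkQ _ (D b) := by
    intro n a b h
    rw [Submodule.mkQ_apply, Submodule.mkQ_apply, Submodule.Quotient.eq, htop] at h ⊢
    rw [← map_sub]
    exact hD n _ h
  have hcompat : ∀ (x : AdicCompletion I A) {i j : ℕ} (hij : i ≤ j),
      Submodule.mkQ (I ^ (i + 1) • ⊤ : Submodule A A) (rep x (j + 1)) = x.1 (i + 1) := fun x i j hij ↦ by
    rw [← x.2 (show i + 1 ≤ j + 1 by omega), ← hrep x (j + 1)]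
    rfl
  let F : AdicCompletion I A → AdicCompletion I A := fun x ↦
    ⟨fun n ↦ Submodule.mkQ _ (D (rep x (n + 1))), fun {i j} hij ↦ by
      show Submodule.mkQ (I ^ i • ⊤ : Submodule A A) (D (rep x (j + 1))) = _
      exact key i _ _ ((hcompat x hij).trans (hrep x (i + 1)).symm)⟩
  have hF : ∀ (x : AdicCompletion I A) (n : ℕ) (a : A), Submodule.mkQ _ a = x.1 (n + 1) →
      (F x).1 n = Submodule.mkQ _ (D a) := fun x n a ha ↦ key n _ _ ((hrep x (n + 1)).trans ha.symm)
  have hadd : ∀ x y, F (x + y) = F x + F y := fun x y ↦ AdicCompletion.ext fun n ↦ by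
    rw [AdicCompletion.val_add_apply, hF (x + y) n (rep x (n + 1) + rep y (n + 1))
      (by rw [map_add, hrep, hrep, AdicCompletion.val_add_apply]), map_add, map_add]
  refine ⟨Derivation.mk' (AddMonoidHom.mk' F hadd).toIntLinearMap (fun x y ↦ ?_), fun a ↦ ?_⟩
  · refine AdicCompletion.ext fun n ↦ ?_
    show (F (x * y)).1 n = (x * F y + y * F x).1 n
    rw [hF (x * y) n (rep x (n + 1) * rep y (n + 1)) (by
      rw [AdicCompletion.val_mul, ← hrep x, ← hrep y]; rfl)]
    rw [AdicCompletion.val_add_apply, AdicCompletion.val_mul, AdicCompletion.val_mul, D.leibniz, map_add,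
      hF x n _ (hrep x (n + 1)), hF y n _ (hrep y (n + 1)),
      ← x.2 (show n ≤ n + 1 by omega), ← y.2 (show n ≤ n + 1 by omega), ← hrep x, ← hrep y]
    rfl
  · refine AdicCompletion.ext fun n ↦ ?_
    exact hF _ n a rfl

/-- The dual number map of a derivation. -/
def dualHom {R : Type u} [CommRing R] (D : Derivation ℤ R R) : R →+* TrivSqZeroExt R R where
  toFun r := TrivSqZeroExt.inl r + TrivSqZeroExt.inr (D r)
  map_one' := by ext <;> simp
  map_mul' r s := by ext <;> simp [mul_comm]
  map_zero' := by ext <;> simp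
  map_add' r s := by ext <;> simp

/-- A derivation extends to every localisation. -/
theorem exists_derivation_localization {R : Type u} [CommRing R] (M : Submonoid R) (S : Type u) [CommRing S]
    [Algebra R S] [IsLocalization M S] (D : Derivation ℤ R R) :
    ∃ D' : Derivation ℤ S S, ∀ r, D' (algebraMap R S r) = algebraMap R S (D r) := by
  let a := algebraMap R S
  let g₀ : R →+* TrivSqZeroExt S S :=
    { toFun := fun r ↦ TrivSqZeroExt.inl (a r) + TrivSqZeroExt.inr (a (D r))
      map_one' := by ext <;> simp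
      map_mul' := fun r s ↦ by ext <;> simp [mul_comm]
      map_zero' := by ext <;> simp
      map_add' := fun r s ↦ by ext <;> simp }
  have hu : ∀ y : M, IsUnit (g₀ y) := fun y ↦ by
    rw [TrivSqZeroExt.isUnit_iff_isUnit_fst]
    simpa [g₀, a] using IsLocalization.map_units S y
  let g := IsLocalization.lift (S := S) hu
  have hfst : ∀ z, (g z).fst = z := fun z ↦ by
    have h : (TrivSqZeroExt.fstHom S S S).toRingHom.comp g = RingHom.id S :=
      IsLocalization.ringHom_ext M (RingHom.ext fun r ↦ by simp [g, IsLocalization.lift_eq, g₀, a])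
    exact RingHom.congr_fun h z
  refine ⟨Derivation.mk' (AddMonoidHom.mk' (fun z ↦ (g z).snd) fun x y ↦ by
    rw [map_add, TrivSqZeroExt.snd_add]).toIntLinearMap fun x y ↦ ?_, fun r ↦ ?_⟩
  · show (g (x * y)).snd = x * (g y).snd + y * (g x).snd
    rw [map_mul, TrivSqZeroExt.snd_mul, hfst, hfst, smul_eq_mul, op_smul_eq_smul, smul_eq_mul]
  · show (g (a r)).snd = a (D r)
    rw [IsLocalization.lift_eq]
    show (TrivSqZeroExt.inl (a r) + TrivSqZeroExt.inr (a (D r))).snd = _
    rw [TrivSqZeroExt.snd_add, TrivSqZeroExt.snd_inl, TrivSqZeroExt.snd_inr, zero_add]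

/-- A derivation that does not kill `F` modulo the maximal ideal makes the hypersurface regular. -/
theorem isRegularLocalRing_quotient_of_derivation (R : Type u) [CommRing R] [IsRegularLocalRing R] (F : R)
    (hF : F ∈ maximalIdeal R) (D : Derivation ℤ R R) (hD : D F ∉ maximalIdeal R) :
    IsRegularLocalRing (R ⧸ Ideal.span {F}) := by
  refine CommAlgDim.isRegularLocalRing_quotient_singleton hF fun hmem ↦ hD ?_
  rw [pow_two] at hmem
  refine Submodule.mul_induction_on hmem (fun x hx y hy ↦ ?_) fun x y hx hy ↦ ?_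
  · rw [D.leibniz, smul_eq_mul, smul_eq_mul]
    exact add_mem (Ideal.mul_mem_right _ _ hx) (Ideal.mul_mem_right _ _ hy)
  · rw [map_add]; exact add_mem hx hy

/-- The local rings of a hypersurface in a regular local ring of a ring, at a point where some derivation moves the
equation. -/
theorem isRegularLocalRing_of_derivation (R : Type u) [CommRing R] (F : R) (Q : Ideal (R ⧸ Ideal.span {F}))
    [Q.IsPrime] [IsRegularLocalRing (Localization.AtPrime (Q.comap (Ideal.Quotient.mk (Ideal.span {F}))))]
    (D : Derivation ℤ R R) (hD : D F ∉ Q.comap (Ideal.Quotient.mk (Ideal.span {F}))) :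
    IsRegularLocalRing (Localization.AtPrime Q) := by
  let π := Ideal.Quotient.mk (Ideal.span {F})
  let Q₀ := Q.comap π
  let RQ := Localization.AtPrime Q₀
  have hFQ : F ∈ Q₀ := by
    show π F ∈ Q
    rw [Ideal.Quotient.eq_zero_iff_mem.mpr (Ideal.mem_span_singleton_self F)]
    exact zero_mem _
  obtain ⟨D', hD'⟩ := exists_derivation_localization Q₀.primeCompl RQ D
  haveI := isRegularLocalRing_quotient_of_derivation RQ (algebraMap R RQ F)
    ((IsLocalization.AtPrime.to_map_mem_maximal_iff RQ Q₀ F).mpr hFQ) D' (by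
      rw [hD', IsLocalization.AtPrime.to_map_mem_maximal_iff RQ Q₀]
      exact hD)
  let χ : RQ →+* Localization.AtPrime Q := Localization.localRingHom Q₀ Q π rfl
  have hχ : Function.Surjective χ :=
    RingHom.surjectiveOnStalks_of_surjective Ideal.Quotient.mk_surjective Q inferInstance
  have hkerχ : RingHom.ker χ = Ideal.span {algebraMap R RQ F} := by
    refine le_antisymm (fun z hz ↦ ?_) ((Ideal.span_singleton_le_iff_mem _).mpr (by
      rw [RingHom.mem_ker, Localization.localRingHom_to_map,
        Ideal.Quotient.eq_zero_iff_mem.mpr (Ideal.mem_span_singleton_self F), map_zero]))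
    obtain ⟨⟨b, s⟩, hbs⟩ := IsLocalization.surj Q₀.primeCompl z
    have h1 : algebraMap (R ⧸ Ideal.span {F}) (Localization.AtPrime Q) (π b) = 0 := by
      rw [← Localization.localRingHom_to_map Q₀ Q π rfl, ← hbs, map_mul, RingHom.mem_ker.mp hz, zero_mul]
    obtain ⟨⟨t, ht⟩, ht0⟩ := (IsLocalization.map_eq_zero_iff Q.primeCompl _ _).mp h1
    obtain ⟨t', rfl⟩ := Ideal.Quotient.mk_surjective t
    change π t' * π b = 0 at ht0
    rw [← map_mul, Ideal.Quotient.eq_zero_iff_mem, Ideal.mem_span_singleton] at ht0
    obtain ⟨c, hc⟩ := ht0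
    refine Ideal.mem_span_singleton.mpr ?_
    have hu : IsUnit (algebraMap R RQ (t' * s)) :=
      IsLocalization.map_units RQ (⟨t' * s, Q₀.primeCompl.mul_mem ht s.2⟩ : Q₀.primeCompl)
    rw [← hu.dvd_mul_right, map_mul, mul_left_comm, hbs, ← map_mul, hc, map_mul]
    exact dvd_mul_right _ _
  exact IsRegularLocalRing.of_ringEquiv (R := RQ ⧸ Ideal.span {algebraMap R RQ F})
    ((Ideal.quotEquivOfEq hkerχ).symm.trans (RingHom.quotientKerEquivOfSurjective hχ))

/-- Adjoining a `p`-th root of an element moved by a derivation keeps a ring regular. -/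
theorem ringP_radical (p : ℕ) (R : Type u) [CommRing R] [IsNoetherianRing R] (hR : RingP RegLoc R)
    (f : R) (D : Derivation ℤ R R) (hD : IsUnit (D f)) :
    RingP RegLoc (R[X] ⧸ Ideal.span {X ^ p - C f}) := by
  haveI : IsRegularRing R := (isRegularRing_iff R).mpr hR
  haveI : Algebra.Smooth R R[X] := ⟨inferInstance, inferInstance⟩
  haveI : IsRegularRing R[X] := CohenLib.isRegularRing_of_smooth R _
  intro Q _
  haveI : IsRegularLocalRing (Localization.AtPrime (Q.comap (Ideal.Quotient.mk (Ideal.span {X ^ p - C f})))) :=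
    IsRegularRing.isRegularLocalRing_localization (R := R[X]) _
  let DX : Derivation ℤ R[X] R[X] := PolynomialModule.equivPolynomialSelf.compDer D.mapCoeffs
  refine isRegularLocalRing_of_derivation R[X] _ Q DX fun h ↦ ?_
  have hDF : DX (X ^ p - C f) = -C (D f) := by
    have hX : DX X = 0 := by simp [DX]
    have hC : DX (C f) = C (D f) := by
      refine Polynomial.ext fun i ↦ ?_
      show (D.mapCoeffs (C f)).coeff i = _
      rw [Derivation.mapCoeffs_apply, coeff_C, coeff_C]
      split_ifs <;> simp
    rw [map_sub, hC, Derivation.leibniz_pow, hX]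
    simp
  have h' : -C (D f) ∈ Q.comap (Ideal.Quotient.mk (Ideal.span {X ^ p - C f})) := hDF.subst (motive := fun z ↦ z ∈ Q.comap (Ideal.Quotient.mk (Ideal.span {X ^ p - C f}))) h
  rw [neg_mem_iff] at h'
  exact Ideal.IsPrime.ne_top inferInstance (Ideal.eq_top_of_isUnit_mem _ h' (hD.map C))

end

end GRingLib
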