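import Groth.Agent.GRingLib.FiniteType
import Groth.Agent.CplExcLib.J2
import Groth.Agent.CatLib.More
import Groth.Agent.CatLib.Completion
import Groth.Prelude.Def_EGA4b

/-!
# Stability of excellence
-/

set_option autoImplicit false
set_option linter.style.haveILetI false

universe u

open EGA4

namespace GRingLib

/-- J-2 passes to algebras of finite type. -/
theorem isJ2_of_finiteType (A B : Type u) [CommRing A] [CommRing B] [Algebra A B] [Algebra.FiniteType A B]
    (hA : IsJ2 A) : IsJ2 B := fun S _ _ hS ↦ by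
  letI : Algebra A S := ((algebraMap B S).comp (algebraMap A B)).toAlgebra
  haveI : IsScalarTower A B S := .of_algebraMap_eq fun _ ↦ rfl
  exact hA S (Algebra.FiniteType.trans ‹Algebra.FiniteType A B› hS)

/-- J-2 passes to localisations. -/
theorem isJ2_of_isLocalization (A A' : Type u) [CommRing A] [CommRing A'] [Algebra A A'] (M : Submonoid A)
    [IsLocalization M A'] (hA : IsJ2 A) : IsJ2 A' := fun S _ _ hS ↦ by
  classical
  letI : Algebra A S := ((algebraMap A' S).comp (algebraMap A A')).toAlgebra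
  haveI : IsScalarTower A A' S := .of_algebraMap_eq fun _ ↦ rfl
  obtain ⟨s, hs⟩ := hS.out
  let S₀ := Algebra.adjoin A (s : Set S)
  haveI : Algebra.FiniteType A S₀ := Subalgebra.fg_iff_finiteType _ |>.mp (Subalgebra.fg_adjoin_finset s)
  have hsurj : ∀ u : S, ∃ t ∈ M, algebraMap A S t * u ∈ S₀ := fun u ↦ by
    have hu : u ∈ Algebra.adjoin A' (s : Set S) := hs ▸ Algebra.mem_top
    induction hu using Algebra.adjoin_induction with
    | mem x hx => exact ⟨1, one_mem _, by rw [map_one, one_mul]; exact Algebra.subset_adjoin hx⟩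
    | algebraMap c =>
      obtain ⟨⟨a, t⟩, hat⟩ := IsLocalization.surj M c
      refine ⟨t, t.2, ?_⟩
      rw [IsScalarTower.algebraMap_apply A A' S, ← map_mul, mul_comm, hat, ← IsScalarTower.algebraMap_apply]
      exact Subalgebra.algebraMap_mem S₀ a
    | add x y _ _ hx hy =>
      obtain ⟨t, ht, hx⟩ := hx; obtain ⟨t', ht', hy⟩ := hy
      refine ⟨t * t', mul_mem ht ht', ?_⟩
      rw [show algebraMap A S (t * t') * (x + y) =
        algebraMap A S t' * (algebraMap A S t * x) + algebraMap A S t * (algebraMap A S t' * y) by rw [map_mul]; ring]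
      exact add_mem (mul_mem (Subalgebra.algebraMap_mem S₀ _) hx) (mul_mem (Subalgebra.algebraMap_mem S₀ _) hy)
    | mul x y _ _ hx hy =>
      obtain ⟨t, ht, hx⟩ := hx; obtain ⟨t', ht', hy⟩ := hy
      refine ⟨t * t', mul_mem ht ht', ?_⟩
      rw [show algebraMap A S (t * t') * (x * y) = (algebraMap A S t * x) * (algebraMap A S t' * y) by
        rw [map_mul]; ring]
      exact mul_mem hx hy
  let N := Algebra.algebraMapSubmonoid S₀ M
  haveI : IsLocalization N S := by
    refine ⟨?_, fun u ↦ ?_, fun {x y} h ↦ ⟨1, by rw [show x = y from Subtype.ext h]⟩⟩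
    · rintro ⟨_, t, ht, rfl⟩
      exact (IsLocalization.map_units A' (⟨t, ht⟩ : M)).map (algebraMap A' S)
    · obtain ⟨t, ht, htu⟩ := hsurj u
      exact ⟨⟨⟨_, htu⟩, ⟨algebraMap A S₀ t, t, ht, rfl⟩⟩, mul_comm _ _⟩
  have h : regLocus S = PrimeSpectrum.comap (algebraMap S₀ S) ⁻¹' regLocus S₀ := Set.ext fun Q ↦ by
    haveI : IsLocalization.AtPrime (Localization.AtPrime Q.asIdeal) (Q.asIdeal.comap (algebraMap S₀ S)) :=
      IsLocalization.isLocalization_isLocalization_atPrime_isLocalization N (Localization.AtPrime Q.asIdeal) Q.asIdeal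
    let e := (IsLocalization.algEquiv (Q.asIdeal.comap (algebraMap S₀ S)).primeCompl
      (Localization.AtPrime (Q.asIdeal.comap (algebraMap S₀ S))) (Localization.AtPrime Q.asIdeal)).toRingEquiv
    show IsRegularLocalRing _ ↔ IsRegularLocalRing (Localization.AtPrime (Q.asIdeal.comap (algebraMap S₀ S)))
    exact ⟨fun h ↦ @IsRegularLocalRing.of_ringEquiv _ _ h _ _ e.symm, fun h ↦ @IsRegularLocalRing.of_ringEquiv _ _ h _ _ e⟩
  rw [h]
  exact (hA S₀ inferInstance).preimage (PrimeSpectrum.continuous_comap _)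

/-- Complete local rings are excellent. -/
theorem isExcellent_complete (A : Type u) [CommRing A] [IsNoetherianRing A] [IsLocalRing A]
    [IsAdicComplete (IsLocalRing.maximalIdeal A) A] : IsExcellent A := by
  refine ⟨inferInstance, ?_, Groth.Agent.S0598.result A, CplExcLib.isJ2_of_complete A⟩
  obtain ⟨R, _, _, _, f, hR, hf⟩ := CatLib.exists_cm_surjective A
  letI := f.toAlgebra
  haveI : Algebra.FiniteType R A := Algebra.FiniteType.of_surjective (Algebra.ofId R A) hf
  exact CatLib.isUniversallyCatenary_of_finiteType R A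
    (CatLib.isUniversallyCatenary_of_isCMRing (CatLib.isCMRing_of_isCM hR))

end GRingLib
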