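import Groth.Agent.CplExcLib.Derivations
import Groth.Agent.CplExcLib.J0
import Groth.Agent.NormalLib.Transfer
import Mathlib.RingTheory.Polynomial.Basic
import Mathlib.Algebra.MvPolynomial.Equiv

/-!
# Families of subrings of finite index and derivations
-/

set_option autoImplicit false
set_option linter.style.haveILetI false
set_option maxHeartbeats 800000

universe u

open Groth.Agent

namespace GRingLib

/-- A directed family of subrings of finite index, relatively closed under division, with intersection the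
`p`-th powers. -/
def HasPFamily (p : ℕ) (R : Type u) [CommRing R] : Prop :=
  ∃ (α : Type u) (_ : Nonempty α) (RS : α → Subring R),
    (∀ a b, ∃ c, RS c ≤ RS a ∧ RS c ≤ RS b) ∧ (∀ a r, r ^ p ∈ RS a) ∧ (∀ a, Module.Finite (RS a) R) ∧
      (∀ a v z, v ∈ RS a → v ≠ 0 → v * z ∈ RS a → z ∈ RS a) ∧ ∀ r, (∀ a, r ∈ RS a) → ∃ y, y ^ p = r

/-- Derivations of finite domains detect `p`-th powers. -/
def HasDer (p : ℕ) (A : Type u) [CommRing A] : Prop :=
  ∀ (U : Type u) [CommRing U] [IsDomain U] [Algebra A U] [Module.Finite A U],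
    Function.Injective (algebraMap A U) → ∀ f : U,
      (∀ y : FractionRing U, y ^ p ≠ algebraMap U (FractionRing U) f) → ∃ D : Derivation ℤ U U, D f ≠ 0

/-- A non `p`-th power in a domain of finite type, generically finite over a ring with a `p`-family, is moved by a
derivation. -/
theorem exists_derivation_ft (p : ℕ) [Fact p.Prime] (R U : Type u) [CommRing R] [IsDomain R] [CharP R p]
    (hR : HasPFamily p R) [CommRing U] [IsDomain U] [Algebra R U] [Algebra.FiniteType R U]
    (hinj : Function.Injective (algebraMap R U))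
    (hfd : letI := haveI : FaithfulSMul R (FractionRing U) := CplExcLib.faithfulSMul_fractionRing R U hinj
      FractionRing.liftAlgebra R (FractionRing U)
      FiniteDimensional (FractionRing R) (FractionRing U))
    (f : U) (hf : ∀ y : FractionRing U, y ^ p ≠ algebraMap U (FractionRing U) f) :
    ∃ D : Derivation ℤ U U, D f ≠ 0 := by
  classical
  obtain ⟨α, _, RS, hdir, hpow, hfin, hdiv, hinter⟩ := hR
  let K := FractionRing R
  let L := FractionRing U
  haveI : FaithfulSMul R L := CplExcLib.faithfulSMul_fractionRing R U hinj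
  letI : Algebra K L := FractionRing.liftAlgebra R L
  haveI : FiniteDimensional K L := hfd
  haveI : CharP K p := charP_of_injective_ringHom (IsFractionRing.injective R K) p
  haveI : CharP L p := charP_of_injective_ringHom (algebraMap K L).injective p
  let KS := fun S ↦ Subfield.closure (algebraMap R K '' (RS S : Set R))
  have hmem : ∀ S (x : K), x ∈ KS S → ∃ a ∈ RS S, ∃ b ∈ RS S, algebraMap R K a / algebraMap R K b = x := by
    intro S x hx
    obtain ⟨y, hy, z, hz, rfl⟩ := Subfield.mem_closure_iff.mp hx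
    have hcl : Subring.closure (algebraMap R K '' (RS S : Set R)) = (RS S).map (algebraMap R K) := by
      rw [← RingHom.map_closure, Subring.closure_eq]
    rw [hcl] at hy hz
    obtain ⟨a, ha, rfl⟩ := hy
    obtain ⟨b, hb, rfl⟩ := hz
    exact ⟨a, ha, b, hb, rfl⟩
  have hKSpow : ∀ S (x : K), x ^ p ∈ KS S := fun S x ↦ by
    obtain ⟨a, b, -, rfl⟩ := IsFractionRing.div_surjective R x
    rw [div_pow, ← map_pow, ← map_pow]
    exact (KS S).div_mem (Subfield.subset_closure ⟨_, hpow S a, rfl⟩) (Subfield.subset_closure ⟨_, hpow S b, rfl⟩)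
  have hKSinter : ∀ x : K, (∀ S, x ∈ KS S) → x ∈ Set.range fun y : K ↦ y ^ p := by
    intro x hx
    obtain ⟨a, b, hb, rfl⟩ := IsFractionRing.div_surjective R x
    have hb0 : b ≠ 0 := nonZeroDivisors.ne_zero hb
    have hb' : algebraMap R K b ≠ 0 := (map_ne_zero_iff _ (IsFractionRing.injective R K)).mpr hb0
    have hp1 : p = (p - 1) + 1 := by have := (Fact.out : p.Prime).pos; omega
    have hg : ∀ S, a * b ^ (p - 1) ∈ RS S := fun S ↦ by
      obtain ⟨u, hu, v, hv, huv⟩ := hmem S _ (hx S)
      by_cases hv0 : algebraMap R K v = 0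
      · rw [hv0, div_zero, eq_comm, div_eq_zero_iff, or_iff_left hb', map_eq_zero_iff _ (IsFractionRing.injective R K)] at huv
        rw [huv, zero_mul]
        exact zero_mem _
      · refine hdiv S v _ hv (fun h ↦ hv0 (by rw [h, map_zero])) ?_
        rw [div_eq_div_iff hv0 hb', ← map_mul, ← map_mul] at huv
        have hE : v * (a * b ^ (p - 1)) = u * b ^ p := by
          have h := IsFractionRing.injective R K huv
          calc v * (a * b ^ (p - 1)) = (a * v) * b ^ (p - 1) := by ring
            _ = (u * b) * b ^ (p - 1) := by rw [h]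
            _ = u * b ^ ((p - 1) + 1) := by ring
            _ = u * b ^ p := by rw [← hp1]
        rw [hE]
        exact mul_mem hu (hpow S b)
    obtain ⟨r, hr⟩ := hinter _ hg
    refine ⟨algebraMap R K r / algebraMap R K b, ?_⟩
    show (_ / _) ^ p = _
    rw [div_pow, ← map_pow, hr, map_mul, map_pow, div_eq_div_iff (pow_ne_zero _ hb') hb', mul_assoc, ← pow_succ, ← hp1]
  let bL := Module.finBasis K L
  let v : Option (Fin (Module.finrank K L)) → L := fun o ↦ o.elim (algebraMap U L f) fun i ↦ bL i ^ p
  obtain ⟨S, hS⟩ := CplExcLib.exists_indep KS (fun S S' ↦ by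
      obtain ⟨T, h1, h2⟩ := hdir S S'
      exact ⟨T, Subfield.closure_mono (Set.image_mono h1), Subfield.closure_mono (Set.image_mono h2)⟩)
    (Set.range fun y : K ↦ y ^ p) hKSinter ⟨0, zero_pow (Fact.out : p.Prime).ne_zero⟩ ⟨1, one_pow p⟩
    (by
      rintro _ ⟨y, rfl⟩
      exact ⟨-y, by
        show (-y) ^ p = -(y ^ p)
        rw [neg_pow, neg_one_pow_expChar K p, neg_one_mul]⟩)
    v Finset.univ (fun c hc hsum ↦ by
      choose e he using fun o ↦ hc o (Finset.mem_univ o)
      simp only at he
      haveI : ExpChar L p := ExpChar.prime (Fact.out : p.Prime)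
      rw [Fintype.sum_option] at hsum
      simp only [v, Option.elim, ← he] at hsum
      have hsum' : algebraMap K L (e none) ^ p * algebraMap U L f +
          (∑ i, e (some i) • bL i) ^ p = 0 := by
        rw [sum_pow_char p, ← hsum, Algebra.smul_def, map_pow]
        congr 1
        exact Finset.sum_congr rfl fun i _ ↦ by rw [Algebra.smul_def, Algebra.smul_def, mul_pow, map_pow]
      have hnone : e none = 0 := by
        by_contra h0
        have h0' : algebraMap K L (e none) ≠ 0 := (map_ne_zero _).mpr h0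
        refine hf ((-∑ i, e (some i) • bL i) / algebraMap K L (e none)) ?_
        rw [div_pow, div_eq_iff (pow_ne_zero _ h0'), neg_pow, neg_one_pow_expChar L p, neg_one_mul,
          neg_eq_iff_add_eq_zero, mul_comm, add_comm]
        exact hsum'
      rw [hnone, map_zero, zero_pow (Fact.out : p.Prime).ne_zero, zero_mul, zero_add,
        pow_eq_zero_iff (Fact.out : p.Prime).ne_zero] at hsum'
      rintro (_ | i) -
      · rw [← he, hnone, zero_pow (Fact.out : p.Prime).ne_zero]
      · rw [← he, Fintype.linearIndependent_iff.mp bL.linearIndependent _ hsum' i,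
          zero_pow (Fact.out : p.Prime).ne_zero])
  -- the span of the `p`-th powers of a basis over `KS S`
  let W : Set L := {x | ∃ c : Fin (Module.finrank K L) → K, (∀ i, c i ∈ KS S) ∧ ∑ i, c i • bL i ^ p = x}
  haveI : ExpChar L p := ExpChar.prime (Fact.out : p.Prime)
  have hWpow : ∀ x : L, x ^ p ∈ W := fun x ↦ ⟨fun i ↦ bL.repr x i ^ p, fun i ↦ hKSpow S _, by
    conv_rhs => rw [← bL.sum_repr x, sum_pow_char p]
    exact Finset.sum_congr rfl fun i _ ↦ by rw [Algebra.smul_def, Algebra.smul_def, mul_pow, map_pow]⟩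
  have hWadd : ∀ x ∈ W, ∀ y ∈ W, x + y ∈ W := by
    rintro _ ⟨c, hc, rfl⟩ _ ⟨d, hd, rfl⟩
    exact ⟨fun i ↦ c i + d i, fun i ↦ (KS S).add_mem (hc i) (hd i),
      by simp only [add_smul, Finset.sum_add_distrib]⟩
  have hWsmul : ∀ a ∈ KS S, ∀ x ∈ W, algebraMap K L a * x ∈ W := by
    rintro a ha _ ⟨c, hc, rfl⟩
    refine ⟨fun i ↦ a * c i, fun i ↦ (KS S).mul_mem ha (hc i), ?_⟩
    rw [Finset.mul_sum]
    exact Finset.sum_congr rfl fun i _ ↦ by rw [← Algebra.smul_def, smul_smul]
  have hW0 : (0 : L) ∈ W := ⟨0, fun _ ↦ (KS S).zero_mem, by simp⟩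
  have hWsum : ∀ (t : Finset (Fin (Module.finrank K L))) (g : Fin (Module.finrank K L) → L),
      (∀ i ∈ t, g i ∈ W) → ∑ i ∈ t, g i ∈ W := fun t g hg ↦
    Finset.sum_induction g (· ∈ W) (fun a b ha hb ↦ hWadd a ha b hb) hW0 hg
  have hWmul : ∀ x ∈ W, ∀ y ∈ W, x * y ∈ W := by
    rintro _ ⟨c, hc, rfl⟩ _ ⟨d, hd, rfl⟩
    rw [Finset.sum_mul]
    refine hWsum _ _ fun i _ ↦ ?_
    rw [Finset.mul_sum]
    refine hWsum _ _ fun j _ ↦ ?_
    rw [Algebra.smul_def, Algebra.smul_def, mul_mul_mul_comm, ← map_mul, ← mul_pow]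
    exact hWsmul _ ((KS S).mul_mem (hc i) (hd j)) _ (hWpow _)
  haveI := hfin S
  haveI : Algebra.FiniteType (RS S) U := Algebra.FiniteType.trans (S := R) inferInstance inferInstance
  have hfW : algebraMap U L f ∉ Algebra.adjoin (EGA41.pPowerSubalgebra p (RS S) L) (∅ : Set L) := by
    intro hmemf
    have hP : ∀ x ∈ EGA41.pPowerSubalgebra p (RS S) L, x ∈ W := fun x hx ↦ by
      induction hx using Algebra.adjoin_induction with
      | mem _ h => obtain ⟨b, rfl⟩ := h; exact hWpow b
      | algebraMap a =>
        have h := hWsmul (algebraMap R K a) (Subfield.subset_closure ⟨a, a.2, rfl⟩) _ (hWpow 1)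
        rwa [one_pow, mul_one, ← IsScalarTower.algebraMap_apply] at h
      | add _ _ _ _ ha hb => exact hWadd _ ha _ hb
      | mul _ _ _ _ ha hb => exact hWmul _ ha _ hb
    rw [Algebra.adjoin_empty, Algebra.mem_bot] at hmemf
    obtain ⟨⟨x, hx⟩, hxf⟩ := hmemf
    obtain ⟨c, hc, hcsum⟩ := hP x hx
    have := hS (fun o ↦ o.elim (-1) c) (by
      rintro (_ | i) -
      · exact (KS S).neg_mem (KS S).one_mem
      · exact hc i) (by
      rw [Fintype.sum_option]
      simp only [v, Option.elim, hcsum, neg_smul, one_smul]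
      rw [← hxf]
      exact neg_add_cancel _) none (Finset.mem_univ _)
    simp at this
  have hind : PBasisLib.SetIndep (A := RS S) p ({algebraMap U L f} : Set L) := by
    have h := PBasisLib.setIndep_insert (A := RS S) p (PBasisLib.setIndep_empty (A := RS S) (K := L) p) hfW
    rwa [insert_empty_eq] at h
  obtain ⟨T, hfT, -, hT⟩ := PBasisLib.exists_pBasis_between (A := RS S) (K := L) p Set.univ _ (Set.subset_univ _)
    (PBasisLib.isPGenerating_univ (A := RS S) (K := L) p) hind
  obtain ⟨D, hD⟩ := PBasisLib.exists_derivation_base (A := RS S) (L := L) p hT fun _ ↦ 1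
  have hDf : D (algebraMap U L f) = 1 := hD ⟨_, hfT rfl⟩
  -- clear denominators
  obtain ⟨s, hs⟩ := (Algebra.FiniteType.out : (⊤ : Subalgebra (RS S) U).FG)
  obtain ⟨⟨c, hc⟩, hcD⟩ := IsLocalization.exist_integer_multiples (nonZeroDivisors U) s fun u ↦ D (algebraMap U L u)
  have hint : ∀ u : U, ∃ w : U, algebraMap U L w = algebraMap U L c * D (algebraMap U L u) := fun u ↦ by
    have : u ∈ Algebra.adjoin (RS S) (s : Set U) := hs ▸ Algebra.mem_top
    induction this using Algebra.adjoin_induction with
    | mem x hx =>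
      obtain ⟨w, hw⟩ := hcD x hx
      exact ⟨w, hw.trans (Algebra.smul_def c _)⟩
    | algebraMap r => exact ⟨0, by rw [← IsScalarTower.algebraMap_apply, Derivation.map_algebraMap, map_zero, mul_zero]⟩
    | add x y _ _ hx hy =>
      obtain ⟨a, ha⟩ := hx; obtain ⟨b, hb⟩ := hy
      exact ⟨a + b, by rw [map_add, map_add, map_add, mul_add, ha, hb]⟩
    | mul x y _ _ hx hy =>
      obtain ⟨a, ha⟩ := hx; obtain ⟨b, hb⟩ := hy
      exact ⟨x * b + y * a, by
        rw [map_add, map_mul, map_mul, map_mul, ha, hb, Derivation.leibniz, smul_eq_mul, smul_eq_mul]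
        ring⟩
  choose w hw using hint
  have hinjU := IsFractionRing.injective U L
  let Dl : U →+ U :=
    { toFun := w
      map_zero' := hinjU (by rw [hw]; simp)
      map_add' := fun a b ↦ hinjU (by rw [map_add, hw, hw, hw, map_add, map_add, mul_add]) }
  refine ⟨Derivation.mk' Dl.toIntLinearMap fun a b ↦ hinjU ?_, fun h ↦ ?_⟩
  · show algebraMap U L (w (a * b)) = algebraMap U L (a • w b + b • w a)
    simp only [hw, map_mul, map_add, Derivation.leibniz, smul_eq_mul]
    ring
  · have h' : algebraMap U L (w f) = 0 := by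
      rw [show w f = 0 from h, map_zero]
    rw [hw, hDf, mul_one, map_eq_zero_iff _ hinjU] at h'
    exact nonZeroDivisors.ne_zero hc h'

/-- Power series rings over fields have a `p`-family. -/
theorem hasPFamily_powerSeries (p : ℕ) [Fact p.Prime] (k : Type u) [Field k] [CharP k p] (n : ℕ) :
    HasPFamily p (MvPowerSeries (Fin n) k) := by
  classical
  obtain ⟨F, hmono, hpow, hfin, hinter⟩ := CplExcLib.exists_subfield_family p k
  refine ⟨Finset k, inferInstance, fun S ↦ CplExcLib.psSubring p (F S), fun S S' ↦ ⟨S ∪ S',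
    fun g hg I ↦ ⟨hmono _ _ Finset.subset_union_left (hg I).1, (hg I).2⟩,
    fun g hg I ↦ ⟨hmono _ _ Finset.subset_union_right (hg I).1, (hg I).2⟩⟩,
    fun S r ↦ CplExcLib.pow_mem_psSubring p (F S) (hpow S) r, fun S ↦ ?_,
    fun S v z hv hv0 h ↦ CplExcLib.mem_of_mul_mem p (F S) hv hv0 h, fun g hg ↦ ?_⟩
  · haveI := hfin S
    exact CplExcLib.finite_psSubring p (F S) (Fact.out : p.Prime).pos
  · have hroot : ∀ I : Fin n →₀ ℕ, ∃ y : k, y ^ p = MvPowerSeries.coeff (p • I) g :=
      fun I ↦ hinter _ fun S ↦ (hg S (p • I)).1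
    choose y hy using hroot
    haveI : ExpChar k p := ExpChar.prime (Fact.out : p.Prime)
    let r : MvPowerSeries (Fin n) k := fun I ↦ y I
    refine ⟨r, MvPowerSeries.ext fun J ↦ ?_⟩
    rw [← MvPowerSeries.map_frobenius_expand p (Fact.out : p.Prime).ne_zero, MvPowerSeries.coeff_map]
    by_cases hJ : ∀ i, p ∣ J i
    · obtain ⟨I, rfl⟩ : ∃ I : Fin n →₀ ℕ, p • I = J :=
        ⟨J.mapRange (· / p) (Nat.zero_div p), Finsupp.ext fun i ↦ by
          rw [Finsupp.smul_apply, Finsupp.mapRange_apply, smul_eq_mul, Nat.mul_div_cancel' (hJ i)]⟩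
      rw [MvPowerSeries.coeff_expand_smul, frobenius_def]
      exact hy I
    · obtain ⟨i, hi⟩ := not_forall.mp hJ
      rw [MvPowerSeries.coeff_expand_of_not_dvd p _ _ hi, map_zero]
      by_contra hne
      exact hi ((hg ∅ J).2 (Ne.symm hne) i)

open Polynomial in
theorem mem_range_map_iff {R : Type u} [CommRing R] (A : Subring R) (g : R[X]) :
    g ∈ (mapRingHom A.subtype).range ↔ ∀ i, g.coeff i ∈ A := by
  constructor
  · rintro ⟨x, rfl⟩ i
    rw [coe_mapRingHom, coeff_map]
    exact (x.coeff i).2
  · intro h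
    obtain ⟨x, hx⟩ := (lifts_iff_coeff_lifts (f := A.subtype) g).mpr fun i ↦ ⟨⟨_, h i⟩, rfl⟩
    exact ⟨x, hx⟩

open Polynomial in
/-- A `p`-family extends to the polynomial ring. -/
theorem hasPFamily_polynomial (p : ℕ) [Fact p.Prime] (R : Type u) [CommRing R] [IsDomain R] [CharP R p]
    (hR : HasPFamily p R) : HasPFamily p R[X] := by
  classical
  obtain ⟨α, _, RS, hdir, hpow, hfin, hdiv, hinter⟩ := hR
  haveI : ExpChar R p := ExpChar.prime (Fact.out : p.Prime)
  have hp0 : p ≠ 0 := (Fact.out : p.Prime).ne_zero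
  have hex : ∀ g : R[X], g ^ p = expand R p (g.map (frobenius R p)) := fun g ↦ by
    rw [← map_expand, map_frobenius_expand]
  refine ⟨α, inferInstance, fun a ↦ (mapRingHom (RS a).subtype).range.map (expand R p).toRingHom, fun a b ↦ ?_,
    fun a g ↦ ?_, fun a ↦ ?_, fun a v z hv hv0 hvz ↦ ?_, fun g hg ↦ ?_⟩
  · obtain ⟨c, h1, h2⟩ := hdir a b
    refine ⟨c, (Subring.gc_map_comap _).monotone_l fun g hg ↦ ?_, (Subring.gc_map_comap _).monotone_l fun g hg ↦ ?_⟩ <;>
      rw [mem_range_map_iff] at hg ⊢
    exacts [fun i ↦ h1 (hg i), fun i ↦ h2 (hg i)]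
  · refine ⟨g.map (frobenius R p), (mem_range_map_iff _ _).mpr fun i ↦ ?_, (hex g).symm⟩
    rw [coeff_map, frobenius_def]
    exact hpow a _
  · let T := (mapRingHom (RS a).subtype).range.map (expand R p).toRingHom
    obtain ⟨s, hs⟩ := (hfin a).fg_top
    refine ⟨⟨(s ×ˢ Finset.range p).image fun x ↦ C x.1 * X ^ x.2, eq_top_iff.mpr fun g htriv ↦ ?_⟩⟩
    clear htriv
    induction g using Polynomial.induction_on' with
    | add g₁ g₂ h₁ h₂ => exact add_mem h₁ h₂
    | monomial i r =>
      have hr : r ∈ Submodule.span (RS a) (s : Set R) := hs ▸ Submodule.mem_top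
      induction hr using Submodule.span_induction with
      | zero => rw [map_zero]; exact zero_mem _
      | add x y _ _ hx hy => rw [map_add]; exact add_mem hx hy
      | mem x hx =>
        let t : T := ⟨X ^ (p * (i / p)), X ^ (i / p), (mem_range_map_iff _ _).mpr fun j ↦ by
          rw [coeff_X_pow]; split_ifs
          exacts [one_mem _, zero_mem _], by simp [← pow_mul]⟩
        have : monomial i x = t • (C x * X ^ (i % p)) := by
          show _ = (X ^ (p * (i / p)) : R[X]) * (C x * X ^ (i % p))
          rw [← C_mul_X_pow_eq_monomial, mul_comm _ (C x * _), mul_assoc, ← pow_add, Nat.mod_add_div]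
        rw [this]
        exact Submodule.smul_mem _ _ (Submodule.subset_span (Finset.mem_image.mpr
          ⟨(x, i % p), Finset.mem_product.mpr ⟨hx, Finset.mem_range.mpr (Nat.mod_lt _ (Nat.pos_of_ne_zero hp0))⟩, rfl⟩))
      | smul c x _ hx =>
        let t : T := ⟨C (c : R), C (c : R), (mem_range_map_iff _ _).mpr fun j ↦ by
          rw [coeff_C]; split_ifs
          exacts [c.2, zero_mem _], by simp⟩
        have : monomial i (c • x) = t • monomial i x := by
          show _ = C (c : R) * monomial i x
          rw [C_mul_monomial]; rfl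
        rw [this]
        exact Submodule.smul_mem _ _ hx
  · obtain ⟨v', hv', rfl⟩ := hv
    obtain ⟨w, hw, hwz⟩ := hvz
    -- strong induction on the coefficient
    change (expand R p) w = (expand R p) v' * z at hwz
    change (expand R p) v' ≠ 0 at hv0
    have hv'0 : v' ≠ 0 := fun h ↦ hv0 (by rw [h, map_zero])
    let i₀ := v'.natTrailingDegree
    have hi₀ : v'.coeff i₀ ≠ 0 := trailingCoeff_nonzero_iff_nonzero.mpr hv'0
    have hvRS : ∀ i, v'.coeff i ∈ RS a := (mem_range_map_iff _ _).mp hv' 
    have hwRS : ∀ i, w.coeff i ∈ RS a := (mem_range_map_iff _ _).mp hw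
    have key : ∀ j, z.coeff j ∈ RS a ∧ (¬ p ∣ j → z.coeff j = 0) := by
      intro j
      induction j using Nat.strong_induction_on with
      | _ j ih =>
        have hc := congrArg (fun g : R[X] ↦ g.coeff (p * i₀ + j)) hwz
        simp only [coeff_mul] at hc
        rw [← Finset.add_sum_erase _ _ ((Finset.HasAntidiagonal.mem_antidiagonal (n := p * i₀ + j) (a := (p * i₀, j))).mpr rfl)] at hc
        simp only [coeff_expand (Nat.pos_of_ne_zero hp0), dvd_mul_right, if_true,
          Nat.mul_div_cancel_left _ (Nat.pos_of_ne_zero hp0)] at hc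
        have hsum : ∀ x ∈ (Finset.HasAntidiagonal.antidiagonal (p * i₀ + j)).erase (p * i₀, j),
            ((if p ∣ x.1 then v'.coeff (x.1 / p) else 0) * z.coeff x.2) ∈ RS a ∧
            (¬ p ∣ j → (if p ∣ x.1 then v'.coeff (x.1 / p) else 0) * z.coeff x.2 = 0) := by
          rintro ⟨x, y⟩ hxy
          rw [Finset.mem_erase, Finset.HasAntidiagonal.mem_antidiagonal] at hxy
          obtain ⟨hne, hxy⟩ := hxy
          dsimp only at *
          split_ifs with hd
          · by_cases hlt : x / p < i₀
            · rw [coeff_eq_zero_of_lt_natTrailingDegree hlt, zero_mul]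
              exact ⟨zero_mem _, fun _ ↦ rfl⟩
            · obtain ⟨x', rfl⟩ := hd
              rw [Nat.mul_div_cancel_left _ (Nat.pos_of_ne_zero hp0)] at hlt ⊢
              have hyj : y < j := by
                rcases (not_lt.mp hlt).lt_or_eq with h | h
                · have := (Nat.mul_lt_mul_left (Nat.pos_of_ne_zero hp0)).mpr h
                  omega
                · have h' : p * x' = p * i₀ := congrArg (p * ·) h.symm
                  exact absurd (Prod.ext h' (by omega)) hne
              refine ⟨mul_mem (hvRS x') (ih y hyj).1, fun hj ↦ ?_⟩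
              rw [(ih y hyj).2 fun hy ↦ hj ?_, mul_zero]
              have h1 : p ∣ p * i₀ + j := hxy ▸ dvd_add (dvd_mul_right _ _) hy
              exact (Nat.dvd_add_right (dvd_mul_right _ _)).mp h1
          · rw [zero_mul]; exact ⟨zero_mem _, fun _ ↦ rfl⟩
        constructor
        · refine hdiv a _ _ (hvRS i₀) hi₀ ?_
          have h1 : v'.coeff i₀ * z.coeff j = (if p ∣ p * i₀ + j then w.coeff ((p * i₀ + j) / p) else 0) -
              ∑ x ∈ (Finset.HasAntidiagonal.antidiagonal (p * i₀ + j)).erase (p * i₀, j),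
                (if p ∣ x.1 then v'.coeff (x.1 / p) else 0) * z.coeff x.2 := by
            rw [eq_sub_iff_add_eq]; exact hc.symm
          rw [h1]
          refine sub_mem ?_ (sum_mem fun x hx ↦ (hsum x hx).1)
          split_ifs
          exacts [hwRS _, zero_mem _]
        · intro hj
          rw [Finset.sum_eq_zero fun x hx ↦ (hsum x hx).2 hj, add_zero,
            if_neg fun h ↦ hj ((Nat.dvd_add_right (dvd_mul_right _ _)).mp h), eq_comm, mul_eq_zero] at hc
          exact hc.resolve_left hi₀
    refine ⟨contract p z, (mem_range_map_iff _ _).mpr fun i ↦ (coeff_contract hp0 z i).symm ▸ (key (i * p)).1, ?_⟩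
    refine Polynomial.ext fun j ↦ ?_
    show (expand R p (contract p z)).coeff j = _
    rw [coeff_expand (Nat.pos_of_ne_zero hp0)]
    split_ifs with hj
    · rw [coeff_contract hp0, Nat.div_mul_cancel hj]
    · exact ((key j).2 hj).symm
  · obtain ⟨a₀⟩ := (inferInstance : Nonempty α)
    obtain ⟨g₀, -, hg₀⟩ := hg a₀
    change (expand R p) g₀ = g at hg₀
    have hroot : ∀ i, ∃ y : R, y ^ p = g₀.coeff i := fun i ↦ hinter _ fun a ↦ by
      obtain ⟨g', hg', hge⟩ := hg a
      change (expand R p) g' = g at hge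
      rw [expand_injective (Nat.pos_of_ne_zero hp0) (hg₀.trans hge.symm)]
      exact (mem_range_map_iff _ _).mp hg' i
    choose y hy using hroot
    refine ⟨∑ i ∈ g₀.support, monomial i (y i), ?_⟩
    rw [hex, ← hg₀]
    congr 1
    conv_rhs => rw [g₀.as_sum_support]
    simp [Polynomial.map_sum, frobenius_def, hy]

/-- A `p`-family is carried by ring isomorphisms. -/
theorem hasPFamily_ringEquiv (p : ℕ) {R S : Type u} [CommRing R] [CommRing S] (e : R ≃+* S)
    (hR : HasPFamily p R) : HasPFamily p S := by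
  obtain ⟨α, hα, RS, hdir, hpow, hfin, hdiv, hinter⟩ := hR
  refine ⟨α, hα, fun a ↦ (RS a).map e.toRingHom, fun a b ↦ ?_, fun a r ↦ ⟨_, hpow a (e.symm r), by simp⟩,
    fun a ↦ ?_, fun a v z ↦ ?_, fun r hr ↦ ?_⟩
  · obtain ⟨c, h1, h2⟩ := hdir a b
    exact ⟨c, (Subring.gc_map_comap _).monotone_l h1, (Subring.gc_map_comap _).monotone_l h2⟩
  · obtain ⟨s, hs⟩ := (hfin a).fg_top
    classical
    refine ⟨⟨s.image e, eq_top_iff.mpr fun z _ ↦ ?_⟩⟩
    suffices ∀ x, e x ∈ Submodule.span ((RS a).map e.toRingHom) ((s.image e : Finset S) : Set S) by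
      simpa using this (e.symm z)
    intro x
    have hx : x ∈ Submodule.span (RS a) (s : Set R) := hs ▸ Submodule.mem_top
    induction hx using Submodule.span_induction with
    | mem y hy => exact Submodule.subset_span (Finset.mem_image_of_mem _ hy)
    | zero => rw [map_zero]; exact zero_mem _
    | add y z _ _ hy hz => rw [map_add]; exact add_mem hy hz
    | smul c y _ hy =>
      rw [show e (c • y) = (⟨e c, c, c.2, rfl⟩ : (RS a).map e.toRingHom) • e y from map_mul e _ _]
      exact Submodule.smul_mem _ _ hy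
  · rintro ⟨v, hv, rfl⟩ h0 ⟨w, hw, hwz⟩
    refine ⟨e.symm z, hdiv a v _ hv (fun h ↦ h0 (by rw [h]; simp)) ?_, by simp⟩
    rwa [show v * e.symm z = w from e.injective (by simpa using hwz.symm)]
  · obtain ⟨y, hy⟩ := hinter (e.symm r) fun a ↦ by
      obtain ⟨w, hw, rfl⟩ := hr a
      simpa using hw
    exact ⟨e y, by rw [← map_pow, hy, RingEquiv.apply_symm_apply]⟩

/-- Polynomial rings over rings with a `p`-family have one. -/
theorem hasPFamily_mvPolynomial (p : ℕ) [Fact p.Prime] (R : Type u) [CommRing R] [IsDomain R] [CharP R p]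
    (hR : HasPFamily p R) : ∀ m : ℕ, HasPFamily p (MvPolynomial (Fin m) R)
  | 0 => hasPFamily_ringEquiv p (MvPolynomial.isEmptyAlgEquiv R (Fin 0)).symm.toRingEquiv hR
  | m + 1 => by
    haveI : CharP (MvPolynomial (Fin m) R) p := charP_of_injective_ringHom (MvPolynomial.C_injective (Fin m) R) p
    exact hasPFamily_ringEquiv p (MvPolynomial.finSuccEquiv R m).symm.toRingEquiv
      (hasPFamily_polynomial p _ (hasPFamily_mvPolynomial p R hR m))

/-- A domain of finite type, generically finite over a ring with a `p`-family, has enough derivations. -/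
theorem hasDer_of_pFamily (p : ℕ) [Fact p.Prime] (R C : Type u) [CommRing R] [IsDomain R] [CharP R p]
    (hR : HasPFamily p R) [CommRing C] [IsDomain C] [Algebra R C] [Algebra.FiniteType R C]
    (hinj : Function.Injective (algebraMap R C))
    (hfd : letI := haveI : FaithfulSMul R (FractionRing C) := CplExcLib.faithfulSMul_fractionRing R C hinj
      FractionRing.liftAlgebra R (FractionRing C)
      FiniteDimensional (FractionRing R) (FractionRing C)) :
    HasDer p C := by
  intro U _ _ _ _ hU f hf
  letI : Algebra R U := ((algebraMap C U).comp (algebraMap R C)).toAlgebra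
  haveI : IsScalarTower R C U := .of_algebraMap_eq fun _ ↦ rfl
  haveI : Algebra.FiniteType R U := Algebra.FiniteType.trans (S := C) inferInstance inferInstance
  have hRU : Function.Injective (algebraMap R U) := hU.comp hinj
  refine exists_derivation_ft p R U hR hRU ?_ f hf
  haveI : FaithfulSMul R (FractionRing C) := CplExcLib.faithfulSMul_fractionRing R C hinj
  haveI : FaithfulSMul R (FractionRing U) := CplExcLib.faithfulSMul_fractionRing R U hRU
  haveI : FaithfulSMul C (FractionRing U) := CplExcLib.faithfulSMul_fractionRing C U hU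
  letI := FractionRing.liftAlgebra R (FractionRing C)
  letI := FractionRing.liftAlgebra R (FractionRing U)
  letI := FractionRing.liftAlgebra C (FractionRing U)
  haveI : FiniteDimensional (FractionRing R) (FractionRing C) := hfd
  haveI : FiniteDimensional (FractionRing C) (FractionRing U) :=
    NormalLib.finiteDimensional_fractionRing (R := C) (S := U) _ _ hU
  haveI : IsScalarTower (FractionRing R) (FractionRing C) (FractionRing U) :=
    .of_algebraMap_eq' (IsLocalization.ringHom_ext (nonZeroDivisors R) (RingHom.ext fun r ↦ by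
      simp only [RingHom.comp_apply, ← IsScalarTower.algebraMap_apply]))
  exact FiniteDimensional.trans (FractionRing R) (FractionRing C) (FractionRing U)

/-- A domain with a `p`-family has enough derivations. -/
theorem hasDer_self (p : ℕ) [Fact p.Prime] (R : Type u) [CommRing R] [IsDomain R] [CharP R p]
    (hR : HasPFamily p R) : HasDer p R := by
  haveI : FaithfulSMul R (FractionRing R) := CplExcLib.faithfulSMul_fractionRing R R Function.injective_id
  refine hasDer_of_pFamily p R R hR Function.injective_id ?_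
  letI := FractionRing.liftAlgebra R (FractionRing R)
  exact NormalLib.finiteDimensional_fractionRing (R := R) (S := R) _ _ Function.injective_id

end GRingLib
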