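import Groth.Agent.GRingLib.Radical
import Groth.Agent.GRingLib.PFamily
import Groth.Agent.GeomRedFibLib.FiniteDomainsP
import Groth.Agent.GeomRedFibLib.GeomField
import Groth.Agent.GeomRedFibLib.CplFibres
import Groth.Agent.NormalLib.CompletionTensor
import Groth.Agent.S0548
import Groth.Agent.CommAlgDim.GlobalDim
import Mathlib.FieldTheory.PurelyInseparable.Basic
import Mathlib.RingTheory.Localization.BaseChange
import Mathlib.RingTheory.AdjoinRoot

/-!
# Geometric regularity of generic formal fibres
-/

set_option autoImplicit false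
set_option linter.style.haveILetI false
set_option synthInstance.maxHeartbeats 400000
set_option maxHeartbeats 1600000

universe u

open TensorProduct IsLocalRing GeomRedFibLib Polynomial

namespace GRingLib

noncomputable section

/-- The generic fibre of `A → C` is regular after every finite extension of the fraction field. -/
def GenReg (A : Type u) [CommRing A] (C : Type u) [CommRing C] [Algebra A C] : Prop :=
  ∀ (B : Type u) [CommRing B] [IsDomain B] [Algebra A B] [Module.Finite A B],
    Function.Injective (algebraMap A B) → RingP RegLoc (FractionRing B ⊗[A] C)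

/-- Transport of a derivation along an isomorphism. -/
def conjDer {R S : Type u} [CommRing R] [CommRing S] [Algebra ℤ R] (e : R ≃+* S) (D : Derivation ℤ R R) : Derivation ℤ S S :=
  Derivation.mk' (AddMonoidHom.mk' (fun z ↦ e (D (e.symm z))) fun x y ↦ by
    rw [map_add, map_add, map_add]).toIntLinearMap fun x y ↦ by
    show e (D (e.symm (x * y))) = x * e (D (e.symm y)) + y * e (D (e.symm x))
    rw [map_mul, Derivation.leibniz, smul_eq_mul, smul_eq_mul, map_add, map_mul, map_mul,
      e.apply_symm_apply, e.apply_symm_apply]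

theorem conjDer_apply {R S : Type u} [CommRing R] [CommRing S] [Algebra ℤ R] (e : R ≃+* S) (D : Derivation ℤ R R) (r : R) :
    conjDer e D (e r) = e (D r) := by
  show e (D (e.symm (e r))) = _
  rw [e.symm_apply_apply]

/-- A finite extension of the fraction field is the fraction field of a finite domain. -/
theorem exists_finite_domain_generic (A : Type u) [CommRing A] [IsDomain A] (L : Type u) [Field L] [Algebra A L]
    [Algebra (FractionRing A) L] [IsScalarTower A (FractionRing A) L] [Module.Finite (FractionRing A) L] :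
    ∃ B : Subalgebra A L, Module.Finite A B ∧ IsFractionRing B L ∧ Function.Injective (algebraMap A B) := by
  let p : Ideal A := ⊥
  have hinj : Function.Injective (algebraMap A L) := by
    rw [IsScalarTower.algebraMap_eq A (FractionRing A) L]
    exact (algebraMap (FractionRing A) L).injective.comp (IsFractionRing.injective A _)
  let j : p.ResidueField →+* L := Ideal.ResidueField.lift p (algebraMap A L) bot_le fun a ha ↦
    isUnit_iff_ne_zero.mpr fun hc ↦ ha ((map_eq_zero_iff _ hinj).mp hc)
  letI := j.toAlgebra
  haveI : IsScalarTower A p.ResidueField L := .of_algebraMap_eq fun a ↦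
    (Ideal.ResidueField.lift_algebraMap p (algebraMap A L) bot_le _ a).symm
  have hinjp : Function.Injective (algebraMap A p.ResidueField) := (injective_iff_map_eq_zero _).mpr fun a ha ↦
    Ideal.algebraMap_residueField_eq_zero.mp ha
  letI : Algebra (FractionRing A) p.ResidueField := (IsFractionRing.lift hinjp).toAlgebra
  haveI : IsScalarTower A (FractionRing A) p.ResidueField := .of_algebraMap_eq fun a ↦
    (IsLocalization.lift_eq _ a).symm
  haveI : IsScalarTower (FractionRing A) p.ResidueField L := .of_algebraMap_eq'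
    (IsLocalization.ringHom_ext (nonZeroDivisors A) (RingHom.ext fun a ↦ by
      simp only [RingHom.comp_apply, ← IsScalarTower.algebraMap_apply]))
  haveI : Module.Finite p.ResidueField L := Module.Finite.of_restrictScalars_finite (FractionRing A) _ _
  obtain ⟨B, h1, h2⟩ := GeomRedFibLib.exists_finite_domain A p L
  exact ⟨B, h1, h2, fun a b h ↦ hinj (congrArg Subtype.val h)⟩

variable (A : Type u) [CommRing A] [IsDomain A] [IsLocalRing A] [IsNoetherianRing A]

/-- The generic formal fibre after a finite extension is a Noetherian ring. -/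
theorem isNoetherianRing_generic (L : Type u) [Field L] [Algebra A L] [Algebra (FractionRing A) L]
    [IsScalarTower A (FractionRing A) L] [Module.Finite (FractionRing A) L] :
    IsNoetherianRing (L ⊗[A] EGA4.Cpl A) := by
  obtain ⟨B, _, _, -⟩ := exists_finite_domain_generic A L
  haveI := isNoetherianRing_cpl A
  haveI : IsNoetherianRing (B ⊗[A] EGA4.Cpl A) :=
    haveI : IsNoetherianRing (EGA4.Cpl A ⊗[A] B) := IsNoetherianRing.of_finite (EGA4.Cpl A) _
    isNoetherianRing_of_ringEquiv _ (Algebra.TensorProduct.comm A (EGA4.Cpl A) B).toRingEquiv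
  letI : Algebra (B ⊗[A] EGA4.Cpl A) (L ⊗[A] EGA4.Cpl A) :=
    (Algebra.TensorProduct.map (Algebra.ofId B L) (AlgHom.id A (EGA4.Cpl A))).toAlgebra
  haveI : IsScalarTower B (B ⊗[A] EGA4.Cpl A) (L ⊗[A] EGA4.Cpl A) := .of_algebraMap_eq fun b ↦
    ((Algebra.TensorProduct.map (Algebra.ofId B L) (AlgHom.id A (EGA4.Cpl A))).commutes b).symm
  let S := Algebra.algebraMapSubmonoid (B ⊗[A] EGA4.Cpl A) (nonZeroDivisors B)
  haveI : IsLocalization S (L ⊗[A] EGA4.Cpl A) :=
    IsLocalization.tensorProduct_tensorProduct A (EGA4.Cpl A) (nonZeroDivisors B) L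
      (RingHom.ext fun d ↦ by simp [RingHom.algebraMap_toAlgebra])
  exact IsLocalization.isNoetherianRing S _ inferInstance

/-- Derivations of finite domains extend to generic formal fibres. -/
theorem exists_derivation_generic (p : ℕ) [Fact p.Prime] [CharP A p] (hder : HasDer p A)
    (L : Type u) [Field L] [Algebra A L] [Algebra (FractionRing A) L]
    [IsScalarTower A (FractionRing A) L] [Module.Finite (FractionRing A) L] (f : L)
    (hf : ∀ y : L, y ^ p ≠ f) :
    ∃ D : Derivation ℤ (L ⊗[A] EGA4.Cpl A) (L ⊗[A] EGA4.Cpl A), IsUnit (D (f ⊗ₜ 1)) := by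
  obtain ⟨B, _, _, hB⟩ := exists_finite_domain_generic A L
  haveI := isNoetherianRing_cpl A
  haveI : CharP L p := charP_of_injective_algebraMap (by
    rw [IsScalarTower.algebraMap_eq A B L]
    exact (IsFractionRing.injective B L).comp hB) p
  obtain ⟨u, v, hv, rfl⟩ := IsFractionRing.div_surjective B f
  have hv0 : algebraMap B L v ≠ 0 := IsFractionRing.to_map_ne_zero_of_mem_nonZeroDivisors hv
  have hp1 : p = (p - 1) + 1 := by have := (Fact.out : p.Prime).pos; omega
  let f' : B := u * v ^ (p - 1)
  have hf' : algebraMap B L f' = algebraMap B L u / algebraMap B L v * algebraMap B L v ^ p := by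
    conv_rhs => rw [hp1, pow_succ']
    rw [← mul_assoc, div_mul_cancel₀ _ hv0]
    simp [f']
  let K := FractionRing B
  let ι : K ≃ₐ[B] L := IsLocalization.algEquiv (nonZeroDivisors B) _ _
  obtain ⟨D₀, hD₀⟩ := hder B hB f' fun y hy ↦ by
    have h1 : ι y ^ p = algebraMap B L f' := by rw [← map_pow, hy, ι.commutes]
    refine hf (ι y / algebraMap B L v) ?_
    rw [div_pow, h1, hf', mul_div_assoc, div_self (pow_ne_zero _ hv0), mul_one]
  -- the completion of `B`
  obtain ⟨e, he⟩ := NormalLib.exists_ringEquiv_completion_tensor (maximalIdeal A) B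
  obtain ⟨Dh, hDh⟩ := exists_derivation_completion B ((maximalIdeal A).map (algebraMap A B)) D₀
  let e' : AdicCompletion ((maximalIdeal A).map (algebraMap A B)) B ≃+* B ⊗[A] EGA4.Cpl A :=
    e.trans (Algebra.TensorProduct.comm A (EGA4.Cpl A) B).toRingEquiv
  have he' : ∀ b : B, e' (algebraMap B _ b) = b ⊗ₜ 1 := fun b ↦ by simp [e', he]
  let D₁ := conjDer e' Dh
  have hD₁ : ∀ b : B, D₁ (b ⊗ₜ 1) = D₀ b ⊗ₜ 1 := fun b ↦ by
    rw [← he', conjDer_apply, hDh, he']
  letI : Algebra (B ⊗[A] EGA4.Cpl A) (L ⊗[A] EGA4.Cpl A) :=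
    (Algebra.TensorProduct.map (Algebra.ofId B L) (AlgHom.id A (EGA4.Cpl A))).toAlgebra
  haveI : IsScalarTower B (B ⊗[A] EGA4.Cpl A) (L ⊗[A] EGA4.Cpl A) := .of_algebraMap_eq fun b ↦
    ((Algebra.TensorProduct.map (Algebra.ofId B L) (AlgHom.id A (EGA4.Cpl A))).commutes b).symm
  let S := Algebra.algebraMapSubmonoid (B ⊗[A] EGA4.Cpl A) (nonZeroDivisors B)
  haveI : IsLocalization S (L ⊗[A] EGA4.Cpl A) :=
    IsLocalization.tensorProduct_tensorProduct A (EGA4.Cpl A) (nonZeroDivisors B) L
      (RingHom.ext fun d ↦ by simp [RingHom.algebraMap_toAlgebra])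
  obtain ⟨D, hD⟩ := exists_derivation_localization S (L ⊗[A] EGA4.Cpl A) D₁
  have hDb : ∀ b : B, D (algebraMap B L b ⊗ₜ 1) = algebraMap B L (D₀ b) ⊗ₜ 1 := fun b ↦ by
    have h := hD (b ⊗ₜ 1)
    rw [hD₁] at h
    simpa [RingHom.algebraMap_toAlgebra] using h
  refine ⟨D, ?_⟩
  let i : L →+* L ⊗[A] EGA4.Cpl A := Algebra.TensorProduct.includeLeftRingHom
  change IsUnit (D (i (algebraMap B L u / algebraMap B L v)))
  have hDv : D (i (algebraMap B L v ^ p)) = 0 := by
    rw [map_pow, Derivation.leibniz_pow, nsmul_eq_mul, ← map_natCast i, CharP.cast_eq_zero L p, map_zero, zero_mul]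
  have h1 : D (i (algebraMap B L f')) = i (algebraMap B L (D₀ f')) := hDb f'
  rw [hf', map_mul, Derivation.leibniz, hDv, smul_zero, zero_add, smul_eq_mul] at h1
  refine isUnit_of_mul_isUnit_right (x := i (algebraMap B L v ^ p)) ?_
  rw [h1]
  exact (isUnit_iff_ne_zero.mpr ((map_ne_zero_iff _ (IsFractionRing.injective B L)).mpr hD₀)).map i

/-- One radical step. -/
theorem ringP_generic_radical (p : ℕ) [Fact p.Prime] [CharP A p] (hder : HasDer p A)
    (M L : Type u) [Field M] [Field L] [Algebra A M] [Algebra A L] [Algebra M L] [IsScalarTower A M L]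
    [Algebra (FractionRing A) M] [IsScalarTower A (FractionRing A) M] [Module.Finite (FractionRing A) M]
    (a : L) (f : M) (haf : a ^ p = algebraMap M L f) (hgen : IntermediateField.adjoin M {a} = ⊤)
    (hf : ∀ y : M, y ^ p ≠ f) (hM : RingP RegLoc (M ⊗[A] EGA4.Cpl A)) : RingP RegLoc (L ⊗[A] EGA4.Cpl A) := by
  let C := EGA4.Cpl A
  haveI := isNoetherianRing_generic A M
  obtain ⟨D, hD⟩ := exists_derivation_generic A p hder M f hf
  let c := (Algebra.TensorProduct.comm A M C).toRingEquiv
  haveI : IsNoetherianRing (C ⊗[A] M) := isNoetherianRing_of_ringEquiv _ c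
  have hCM : RingP RegLoc (C ⊗[A] M) := RingP.congr isFlatLocalProp_regular c hM
  have hD' : IsUnit (conjDer c D (1 ⊗ₜ f)) := by
    rw [show (1 : C) ⊗ₜ[A] f = c (f ⊗ₜ 1) by simp [c], conjDer_apply]
    exact hD.map c
  have h1 := ringP_radical p (C ⊗[A] M) hCM (1 ⊗ₜ f) (conjDer c D) hD'
  let F : M[X] := X ^ p - Polynomial.C f
  have hirr : Irreducible F := X_pow_sub_C_irreducible_of_prime (Fact.out : p.Prime) hf
  have hmon : F.Monic := monic_X_pow_sub_C _ (Fact.out : p.Prime).ne_zero
  have hmin : minpoly M a = F := (minpoly.eq_of_irreducible_of_monic hirr (by simp [F, haf]) hmon).symm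
  have hint : IsIntegral M a := ⟨F, hmon, by simp [F, haf]⟩
  let e₁ : AdjoinRoot F ≃ₐ[M] L :=
    ((AdjoinRoot.algEquivOfEq M F (minpoly M a) hmin.symm).trans (IntermediateField.adjoinRootEquivAdjoin M hint)).trans
      ((IntermediateField.equivOfEq hgen).trans IntermediateField.topEquiv)
  let e₂ := AdjoinRoot.tensorAlgEquiv (R := A) (T := C) F (X ^ p - Polynomial.C ((1 : C) ⊗ₜ[A] f)) (by simp [F])
  exact RingP.congr isFlatLocalProp_regular
    (((Algebra.TensorProduct.congr (AlgEquiv.refl : C ≃ₐ[A] C) (e₁.symm.restrictScalars A)).toRingEquiv.trans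
      e₂.toRingEquiv).symm.trans (Algebra.TensorProduct.comm A C L).toRingEquiv) h1

/-- A domain with regular generic formal fibre and enough derivations has geometrically regular generic formal
fibre. -/
theorem genReg_of (h0 : RingP RegLoc (FractionRing A ⊗[A] EGA4.Cpl A))
    (hder : ∀ (p : ℕ) [Fact p.Prime], CharP A p → HasDer p A) : GenReg A (EGA4.Cpl A) := by
  intro B _ _ _ _ hB
  classical
  let K := FractionRing A
  let L := FractionRing B
  let C := EGA4.Cpl A
  haveI := isNoetherianRing_cpl A
  haveI : FaithfulSMul A L := CplExcLib.faithfulSMul_fractionRing A B hB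
  letI := FractionRing.liftAlgebra A L
  haveI : FiniteDimensional K L := NormalLib.finiteDimensional_fractionRing (R := A) (S := B) K L hB
  let P : IntermediateField K L → Prop := fun M ↦ RingP RegLoc (M ⊗[A] C)
  have hsep : P (separableClosure K L) := by
    let Ls := separableClosure K L
    haveI : Algebra.FormallyEtale K Ls := Algebra.FormallyEtale.of_isSeparable K Ls
    haveI : Algebra.IsGeometricallyReduced K Ls := CohenLib.isGeometricallyReduced_of_formallySmooth
    haveI := isNoetherianRing_generic A K
    haveI : IsNoetherianRing ((K ⊗[A] C) ⊗[K] Ls) :=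
      haveI := isNoetherianRing_generic A Ls
      isNoetherianRing_of_ringEquiv (Ls ⊗[A] C)
        ((Algebra.TensorProduct.cancelBaseChange A K K Ls C).symm.toRingEquiv.trans
          (Algebra.TensorProduct.comm K Ls (K ⊗[A] C)).toRingEquiv)
    exact RingP.congr isFlatLocalProp_regular
      (((Algebra.TensorProduct.comm K (K ⊗[A] C) Ls).toRingEquiv).trans
        (Algebra.TensorProduct.cancelBaseChange A K K Ls C).toRingEquiv)
      (ringP_separable isGeomProp_regular K (K ⊗[A] C) Ls h0)
  suffices ∀ M : IntermediateField K L, separableClosure K L ≤ M → P M by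
    exact RingP.congr isFlatLocalProp_regular
      (Algebra.TensorProduct.congr ((IntermediateField.topEquiv (F := K) (E := L)).restrictScalars A)
        (AlgEquiv.refl : C ≃ₐ[A] C)).toRingEquiv (this ⊤ le_top)
  obtain ⟨q, hq⟩ := CharP.exists K
  rcases CharP.char_is_prime_or_zero K q with hp | rfl
  swap
  · haveI := CharP.charP_to_charZero K
    intro M hM
    rwa [show M = separableClosure K L from le_antisymm (le_top.trans_eq
      ((separableClosure.eq_top_iff K L).mpr inferInstance).symm) hM]
  haveI : Fact q.Prime := ⟨hp⟩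
  haveI : ExpChar K q := ExpChar.prime hp
  haveI : CharP A q := (RingHom.charP_iff _ (IsFractionRing.injective A K) q).mpr hq
  haveI : CharP L q := charP_of_injective_algebraMap (algebraMap K L).injective q
  haveI : ExpChar L q := ExpChar.prime hp
  have step : ∀ (M : IntermediateField K L) (a : L), a ^ q ∈ M → P M → P (M ⊔ IntermediateField.adjoin K {a}) := by
    intro M a ha hM
    by_cases haM : a ∈ M
    · rwa [sup_eq_left.mpr (IntermediateField.adjoin_simple_le_iff.mpr haM)]
    have hf : ∀ y : M, y ^ q ≠ ⟨a ^ q, ha⟩ := fun y hy ↦ haM (by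
      have : (y : L) = a := frobenius_inj L q (congrArg Subtype.val hy)
      exact this ▸ y.2)
    rw [← IntermediateField.restrictScalars_adjoin_eq_sup]
    let M' := IntermediateField.adjoin M {a}
    haveI : IsScalarTower A M L := .of_algebraMap_eq fun x ↦ (IsScalarTower.algebraMap_apply A K L x).trans (by rw [IsScalarTower.algebraMap_apply A K M]; rfl)
    show RingP RegLoc (M' ⊗[A] C)
    refine ringP_generic_radical A q (hder q inferInstance) M M' ⟨a, IntermediateField.mem_adjoin_simple_self M a⟩
      ⟨a ^ q, ha⟩ (Subtype.ext rfl) ?_ hf hM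
    exact IntermediateField.lift_injective _ (by
      rw [IntermediateField.lift_adjoin_simple, IntermediateField.lift_top])
  have iter : ∀ (e : ℕ) (M : IntermediateField K L) (a : L), a ^ q ^ e ∈ M → P M →
      P (M ⊔ IntermediateField.adjoin K {a}) := by
    intro e
    induction e with
    | zero =>
      intro M a ha hM
      rw [pow_zero, pow_one] at ha
      rwa [sup_eq_left.mpr (IntermediateField.adjoin_simple_le_iff.mpr ha)]
    | succ e ih =>
      intro M a ha hM
      have h1 := step M (a ^ q ^ e) (by rwa [← pow_mul, ← pow_succ]) hM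
      have h2 := ih _ a (le_sup_right (a := M) (IntermediateField.mem_adjoin_simple_self K (a ^ q ^ e))) h1
      rwa [sup_assoc, sup_eq_right.mpr (IntermediateField.adjoin_simple_le_iff.mpr
        (pow_mem (IntermediateField.mem_adjoin_simple_self K a) _))] at h2
  intro M hM
  obtain ⟨s, hs⟩ := IntermediateField.fg_of_noetherian M
  haveI : IsPurelyInseparable (separableClosure K L) L := separableClosure.isPurelyInseparable K L
  have : ∀ t : Finset L, P (separableClosure K L ⊔ IntermediateField.adjoin K (t : Set L)) := by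
    intro t
    induction t using Finset.induction_on with
    | empty => rwa [Finset.coe_empty, IntermediateField.adjoin_empty, sup_bot_eq]
    | @insert a t _ ih =>
      obtain ⟨e, y, hy⟩ := IsPurelyInseparable.pow_mem (separableClosure K L) q a
      have h := iter e _ a ((le_sup_left : separableClosure K L ≤ _) (hy ▸ y.2)) ih
      rwa [sup_assoc, ← IntermediateField.adjoin_union, Set.union_singleton, ← Finset.coe_insert] at h
  have h := this s
  rwa [hs, sup_eq_right.mpr hM] at h

/-- Geometric regularity of the generic formal fibre in the sense of the definition. -/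
theorem isGeometricallyRegular_of_genReg (h : GenReg A (EGA4.Cpl A)) :
    CAlg.IsGeometricallyRegular (⊥ : Ideal A).ResidueField (EGA4.formalFibre A (⊥ : Ideal A)) := by
  let p : Ideal A := ⊥
  haveI := isNoetherianRing_cpl A
  haveI := isNoetherianRing_fiber A (EGA4.Cpl A) p
  intro L _ _ hL
  rw [isRegularRing_finite_bc_iff]
  letI : Algebra A L := ((algebraMap p.ResidueField L).comp (algebraMap A p.ResidueField)).toAlgebra
  haveI : IsScalarTower A p.ResidueField L := .of_algebraMap_eq fun _ ↦ rfl
  obtain ⟨B, _, _⟩ := GeomRedFibLib.exists_finite_domain A p L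
  have hinj : Function.Injective (algebraMap A B) := (injective_iff_map_eq_zero _).mpr fun a ha ↦ by
    have h0 : algebraMap p.ResidueField L (algebraMap A p.ResidueField a) = 0 := congrArg Subtype.val ha
    exact Ideal.algebraMap_residueField_eq_zero.mp ((map_eq_zero _).mp h0)
  exact RingP.congr isFlatLocalProp_regular
    (Algebra.TensorProduct.cancelBaseChange A p.ResidueField p.ResidueField L (EGA4.Cpl A)).toRingEquiv.symm
    ((ringP_fractionRing_iff isFlatLocalProp_regular A (EGA4.Cpl A) B L).mpr
      ((ringP_fractionRing_iff isFlatLocalProp_regular A (EGA4.Cpl A) B (FractionRing B)).mp (h B hinj)))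

set_option linter.overlappingInstances false in
theorem ringP_generic_of_regular [IsRegularLocalRing A] : RingP RegLoc (FractionRing A ⊗[A] EGA4.Cpl A) := by
  haveI := isNoetherianRing_cpl A
  haveI : IsRegularLocalRing (EGA4.Cpl A) := (Groth.Agent.S0548.result A).mp inferInstance
  haveI : IsRegularRing (EGA4.Cpl A) := CommAlgDim.isRegularRing_of_isRegularLocalRing _
  haveI : IsRegularRing (A ⊗[A] EGA4.Cpl A) :=
    IsRegularRing.of_ringEquiv (R := EGA4.Cpl A) (Algebra.TensorProduct.lid A (EGA4.Cpl A)).symm.toRingEquiv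
  exact (ringP_fractionRing_iff isFlatLocalProp_regular A (EGA4.Cpl A) A (FractionRing A)).mpr fun q _ _ ↦
    IsRegularRing.isRegularLocalRing_localization q

end

end GRingLib
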