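import Groth.Agent.GRingLib.Transfer
import Groth.Agent.GeomRedFibLib.CplLocal
import Groth.Agent.GeomRedFibLib.GRing
import Mathlib.RingTheory.AdjoinRoot

/-!
# Formal fibres of finite free algebras detect geometric regularity
-/

set_option autoImplicit false
set_option linter.style.haveILetI false
set_option synthInstance.maxHeartbeats 400000
set_option maxHeartbeats 1600000

universe u

open TensorProduct IsLocalRing GeomRedFibLib Polynomial

namespace GRingLib

noncomputable section

variable (R : Type u) [CommRing R]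

/-- A finite algebra is the quotient of a finite free algebra. -/
theorem exists_finite_free_cover (B : Type u) [CommRing B] [Algebra R B] [Module.Finite R B] :
    ∃ (S : Type u) (_ : CommRing S) (_ : Algebra R S) (f : S →ₐ[R] B),
      Module.Finite R S ∧ Module.Free R S ∧ Function.Surjective f := by
  classical
  obtain ⟨t, ht⟩ := (inferInstance : Module.Finite R B).fg_top
  suffices ∀ s : Finset B, ∃ (S : Type u) (_ : CommRing S) (_ : Algebra R S) (f : S →ₐ[R] B),
      Module.Finite R S ∧ Module.Free R S ∧ ∀ b ∈ s, b ∈ f.range by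
    obtain ⟨S, _, _, f, h1, h2, h3⟩ := this t
    refine ⟨S, _, _, f, h1, h2, fun b ↦ ?_⟩
    have hb : b ∈ Submodule.span R (t : Set B) := ht ▸ Submodule.mem_top
    exact Submodule.span_le (p := f.range.toSubmodule).mpr (fun x hx ↦ h3 x hx) hb
  intro s
  induction s using Finset.induction_on with
  | empty => exact ⟨R, _, _, Algebra.ofId R B, inferInstance, inferInstance, by simp⟩
  | @insert a s _ ih =>
    obtain ⟨S, _, _, f, hfin, hfree, hs⟩ := ih
    obtain ⟨P, hP, hPa⟩ := Algebra.IsIntegral.isIntegral (R := R) a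
    haveI : Module.Free R (AdjoinRoot P) := Module.Free.of_basis (AdjoinRoot.powerBasis' hP).basis
    haveI : Module.Finite R (AdjoinRoot P) := Module.Finite.of_basis (AdjoinRoot.powerBasis' hP).basis
    let g : AdjoinRoot P →ₐ[R] B := AdjoinRoot.liftAlgHom P (Algebra.ofId R B) a hPa
    refine ⟨S ⊗[R] AdjoinRoot P, inferInstance, inferInstance,
      Algebra.TensorProduct.lift f g (fun _ _ ↦ .all _ _), inferInstance, inferInstance, fun b hb ↦ ?_⟩
    rcases Finset.mem_insert.mp hb with rfl | hb
    · exact ⟨1 ⊗ₜ AdjoinRoot.root P, by simp [g]⟩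
    · obtain ⟨x, hx⟩ := hs b hb
      exact ⟨x ⊗ₜ 1, by simpa using hx⟩

variable [IsNoetherianRing R] (S : Type u) [CommRing S] [Algebra R S] [Module.Finite R S]

/-- Modulo the maximal ideal, the completed algebra consists of fractions from the algebra. -/
theorem exists_smul_sub_mem (m : Ideal R) [m.IsPrime] (h : S ⊗[R] EGA4.Cpl (Localization.AtPrime m)) :
    ∃ s ∈ m.primeCompl, ∃ a : S, s • h - a ⊗ₜ[R] 1 ∈ (maximalIdeal (EGA4.Cpl (Localization.AtPrime m))).map
      (Algebra.TensorProduct.includeRight (R := R) (A := S)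
        (B := EGA4.Cpl (Localization.AtPrime m))).toRingHom := by
  let R' := Localization.AtPrime m
  let C := EGA4.Cpl R'
  let i : C →+* S ⊗[R] C := (Algebra.TensorProduct.includeRight (R := R) (A := S) (B := C)).toRingHom
  induction h using TensorProduct.induction_on with
  | zero => exact ⟨1, one_mem _, 0, by simp⟩
  | add x y hx hy =>
    obtain ⟨s, hs, a, ha⟩ := hx
    obtain ⟨t, ht, b, hb⟩ := hy
    refine ⟨s * t, mul_mem hs ht, t • a + s • b, ?_⟩
    have := Ideal.add_mem _ (Submodule.smul_of_tower_mem _ t ha) (Submodule.smul_of_tower_mem _ s hb)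
    convert! this using 1
    simp only [smul_add, smul_sub, smul_smul, TensorProduct.add_tmul, TensorProduct.smul_tmul', mul_comm t s]
    abel
  | tmul a c =>
    obtain ⟨x, hx⟩ : ∃ x : R', c - algebraMap R' C x ∈ maximalIdeal C := by
      obtain ⟨x, hx⟩ := AdicRingLib.exists_sub_mem_map_pow (K := maximalIdeal R') (IsNoetherian.noetherian _) 1 c
      exact ⟨x, AdicCompletion.maximalIdeal_eq_map (R := R') ▸ by simpa using hx⟩
    obtain ⟨⟨r, s⟩, hrs⟩ := IsLocalization.surj m.primeCompl x
    refine ⟨s, s.2, r • a, ?_⟩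
    have h1 : (s : R) • c - algebraMap R C r ∈ maximalIdeal C := by
      rw [Algebra.smul_def, IsScalarTower.algebraMap_apply R R' C r, ← hrs, map_mul,
        ← IsScalarTower.algebraMap_apply R R' C, mul_comm _ (algebraMap R C s), ← mul_sub]
      exact Ideal.mul_mem_left _ _ hx
    have h2 : (s : R) • (a ⊗ₜ[R] c) - (r • a) ⊗ₜ[R] (1 : C) =
        (a ⊗ₜ[R] (1 : C)) * i ((s : R) • c - algebraMap R C r) := by
      rw [show i ((s : R) • c - algebraMap R C r) = (1 : S) ⊗ₜ[R] ((s : R) • c - algebraMap R C r) from rfl,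
        Algebra.TensorProduct.tmul_mul_tmul, mul_one, one_mul, TensorProduct.tmul_sub, TensorProduct.tmul_smul,
        Algebra.algebraMap_eq_smul_one, TensorProduct.smul_tmul]
    rw [h2]
    exact Ideal.mul_mem_left _ _ (Ideal.mem_map_of_mem i h1)

/-- The local rings of the completed algebra at maximal ideals are the completed local rings. -/
theorem exists_algEquiv_cpl_of_isMaximal (m : Ideal R) [m.IsPrime]
    (M : Ideal (S ⊗[R] EGA4.Cpl (Localization.AtPrime m))) [M.IsMaximal] :
    ∃ (P : Ideal S) (_ : P.IsPrime),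
      Nonempty (Localization.AtPrime M ≃ₐ[S] EGA4.Cpl (Localization.AtPrime P)) := by
  let R' := Localization.AtPrime m
  let C := EGA4.Cpl R'
  haveI := isNoetherianRing_cpl R'
  let i : C →+* S ⊗[R] C := (Algebra.TensorProduct.includeRight (R := R) (A := S) (B := C)).toRingHom
  let P := M.comap (algebraMap S (S ⊗[R] C))
  have hMC : (maximalIdeal C).map i ≤ M := by
    have hint : i.IsIntegral := by
      have : i = (Algebra.TensorProduct.comm R C S).toRingEquiv.toRingHom.comp (algebraMap C (C ⊗[R] S)) :=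
        RingHom.ext fun c ↦ by simp [i, Algebra.TensorProduct.algebraMap_apply]
      rw [this]
      exact RingHom.IsIntegral.trans _ _ (algebraMap_isIntegral_iff.mpr (Algebra.IsIntegral.of_finite C _))
        (RingHom.isIntegral_of_surjective _ (Algebra.TensorProduct.comm R C S).surjective)
    haveI : (M.comap i).IsMaximal := by
      letI := i.toAlgebra
      haveI : Algebra.IsIntegral C (S ⊗[R] C) := ⟨hint⟩
      exact Ideal.isMaximal_comap_of_isIntegral_of_isMaximal (R := C) M
    exact Ideal.map_le_iff_le_comap.mpr (IsLocalRing.eq_maximalIdeal ‹_›).ge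
  have hmap : ∀ r : R, algebraMap S (S ⊗[R] C) (algebraMap R S r) = i (algebraMap R C r) := fun r ↦ by
    show algebraMap R S r ⊗ₜ[R] (1 : C) = (1 : S) ⊗ₜ[R] algebraMap R C r
    rw [Algebra.algebraMap_eq_smul_one, Algebra.algebraMap_eq_smul_one, TensorProduct.smul_tmul]
  have hm : P.comap (algebraMap R S) = m := Ideal.ext fun r ↦ by
    show algebraMap S (S ⊗[R] C) (algebraMap R S r) ∈ M ↔ _
    rw [hmap]
    refine ⟨fun h ↦ by_contra fun hr ↦ ?_, fun hr ↦ hMC (Ideal.mem_map_of_mem i ?_)⟩
    · refine Ideal.IsPrime.ne_top inferInstance (Ideal.eq_top_of_isUnit_mem M h (IsUnit.map i ?_))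
      rw [IsScalarTower.algebraMap_apply R R' C]
      exact (IsLocalization.map_units R' (⟨r, hr⟩ : m.primeCompl)).map _
    · rw [IsScalarTower.algebraMap_apply R R' C, AdicCompletion.maximalIdeal_eq_map (R := R')]
      exact Ideal.mem_map_of_mem _ ((IsLocalization.AtPrime.to_map_mem_maximal_iff R' m r).mpr hr)
  refine ⟨P, inferInstance, ?_⟩
  have key : ∀ (m' : Ideal R) [m'.IsPrime], m' = m →
      (∃ (M : Ideal (S ⊗[R] EGA4.Cpl (Localization.AtPrime m'))) (_ : M.IsPrime),
        Nonempty (Localization.AtPrime M ≃ₐ[S] EGA4.Cpl (Localization.AtPrime P))) →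
      ∃ (M' : Ideal (S ⊗[R] C)) (_ : M'.IsPrime),
        Nonempty (Localization.AtPrime M' ≃ₐ[S] EGA4.Cpl (Localization.AtPrime P)) := by
    rintro m' _ rfl h
    exact h
  obtain ⟨M', _, ⟨e⟩⟩ := key _ hm (exists_algEquiv_cpl R S P)
  suffices M = M' by subst this; exact ⟨e⟩
  haveI : IsNoetherianRing S := IsNoetherianRing.of_finite R S
  haveI := faithfullyFlat_hat (Localization.AtPrime P)
  haveI : IsLocalHom (algebraMap (Localization.AtPrime P) (EGA4.Cpl (Localization.AtPrime P))) :=
    IsLocalHom.of_comap_surjective _ PrimeSpectrum.comap_surjective_of_faithfullyFlat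
  have hP' : ∀ a : S, algebraMap S (S ⊗[R] C) a ∈ M' ↔ a ∈ P := fun a ↦ by
    rw [← IsLocalization.AtPrime.to_map_mem_maximal_iff (Localization.AtPrime M') M',
      ← IsScalarTower.algebraMap_apply, mem_maximalIdeal, mem_nonunits_iff, ← isUnit_map_iff e, e.commutes,
      IsScalarTower.algebraMap_apply S (Localization.AtPrime P) (EGA4.Cpl (Localization.AtPrime P)),
      isUnit_map_iff (algebraMap (Localization.AtPrime P) (EGA4.Cpl (Localization.AtPrime P))),
      ← mem_nonunits_iff, ← mem_maximalIdeal, IsLocalization.AtPrime.to_map_mem_maximal_iff (Localization.AtPrime P) P]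
  have hM'C : (maximalIdeal C).map i ≤ M' := by
    have hmax : maximalIdeal C = m.map (algebraMap R C) := by
      rw [IsScalarTower.algebraMap_eq R R' C, ← Ideal.map_map, IsLocalization.AtPrime.map_eq_maximalIdeal m R']
      exact AdicCompletion.maximalIdeal_eq_map
    rw [hmax, Ideal.map_map, Ideal.map_le_iff_le_comap]
    intro r hr
    show i (algebraMap R C r) ∈ M'
    rw [← hmap, hP']
    exact (hm ▸ hr : r ∈ P.comap (algebraMap R S))
  refine Ideal.ext fun h ↦ ?_
  obtain ⟨s, hs, a, ha⟩ := exists_smul_sub_mem R S m h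
  have hs' : algebraMap R S s ∉ P := fun hc ↦ hs (hm ▸ hc : s ∈ m)
  have hsh : s • h = algebraMap S (S ⊗[R] C) (algebraMap R S s) * h :=
    Algebra.smul_def s h
  have aux : ∀ (N : Ideal (S ⊗[R] C)) [N.IsPrime], (maximalIdeal C).map i ≤ N →
      (∀ b : S, algebraMap S (S ⊗[R] C) b ∈ N ↔ b ∈ P) → (h ∈ N ↔ a ∈ P) := by
    intro N _ hN hNP
    rw [← hNP a]
    have hd : algebraMap S (S ⊗[R] C) (algebraMap R S s) * h - algebraMap S (S ⊗[R] C) a ∈ N := by
      rw [← hsh]
      exact hN ha
    refine ⟨fun hh ↦ ?_, fun hh ↦ ?_⟩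
    · have := N.sub_mem (N.mul_mem_left (algebraMap S (S ⊗[R] C) (algebraMap R S s)) hh) hd
      rwa [sub_sub_cancel] at this
    have := N.add_mem hd hh
    rw [sub_add_cancel] at this
    exact ((inferInstance : N.IsPrime).mem_or_mem this).resolve_left fun hc ↦ hs' ((hNP _).mp hc)
  exact (aux M hMC fun b ↦ Iff.rfl).trans (aux M' hM'C hP').symm

/-- Regular formal fibres of finite free algebras give geometrically regular formal fibres. -/
theorem isRegularHom_cpl_of_finite_free
    (h : ∀ (S : Type u) [CommRing S] [Algebra R S] [Module.Finite R S] [Module.Free R S]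
        (q : Ideal S) [q.IsPrime] (p : Ideal (Localization.AtPrime q)) [p.IsPrime],
        IsRegularRing (EGA4.formalFibre (Localization.AtPrime q) p)) (m : Ideal R) [m.IsPrime] :
    CAlg.IsRegularHom (Localization.AtPrime m) (EGA4.Cpl (Localization.AtPrime m)) := by
  let R' := Localization.AtPrime m
  let C := EGA4.Cpl R'
  haveI := isNoetherianRing_cpl R'
  haveI : Module.Flat R' C := inferInstance
  refine ⟨inferInstance, fun p' _ ↦ ?_⟩
  haveI := isNoetherianRing_fiber R' C p'
  refine ⟨inferInstance, ?_⟩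
  let p := p'.comap (algebraMap R R')
  refine (isGeometricallyRegular_fiber_iff (IsLocalization.algebraLid m.primeCompl R' C) p p'
    (RingHom.surjectiveOnStalks_of_isLocalization m.primeCompl R') rfl).mpr fun L _ _ hL ↦ ?_
  haveI := hL
  haveI := isNoetherianRing_fiber R C p
  rw [isRegularRing_finite_bc_iff]
  letI : Algebra R L := ((algebraMap p.ResidueField L).comp (algebraMap R p.ResidueField)).toAlgebra
  haveI : IsScalarTower R p.ResidueField L := .of_algebraMap_eq fun _ ↦ rfl
  obtain ⟨B, _, _⟩ := GeomRedFibLib.exists_finite_domain R p L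
  obtain ⟨S, _, _, f, _, _, hf⟩ := exists_finite_free_cover R B
  haveI : IsNoetherianRing S := IsNoetherianRing.of_finite R S
  let g : S →ₐ[R] L := (B.val).comp f
  letI : Algebra S L := g.toRingHom.toAlgebra
  haveI : IsScalarTower R S L := .of_algebraMap_eq fun r ↦ (g.commutes r).symm
  let Q := RingHom.ker (algebraMap S L)
  haveI : Q.IsPrime := RingHom.ker_isPrime _
  let j : Q.ResidueField →ₐ[S] L :=
    { Ideal.ResidueField.lift Q (algebraMap S L) le_rfl (fun a ha ↦ isUnit_iff_ne_zero.mpr fun hc ↦ ha hc) with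
      commutes' := fun a ↦ Ideal.ResidueField.lift_algebraMap Q (algebraMap S L) le_rfl _ a }
  have hj : Function.Bijective j := ⟨j.toRingHom.injective, fun z ↦ by
    obtain ⟨u, v, hv, rfl⟩ := IsFractionRing.div_surjective B z
    obtain ⟨u', rfl⟩ := hf u
    obtain ⟨v', rfl⟩ := hf v
    refine ⟨algebraMap S _ u' / algebraMap S _ v', ?_⟩
    rw [map_div₀, j.commutes, j.commutes]
    rfl⟩
  let σ : Q.ResidueField ≃ₐ[S] L := AlgEquiv.ofBijective j hj
  refine RingP.congr isFlatLocalProp_regular
    ((Algebra.TensorProduct.cancelBaseChange R S S L C).toRingEquiv.trans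
      (Algebra.TensorProduct.cancelBaseChange R p.ResidueField p.ResidueField L C).toRingEquiv.symm) ?_
  refine ringP_bc_of_forall_maximal isFlatLocalProp_regular.congr S (S ⊗[R] C) L fun M _ ↦ ?_
  obtain ⟨P, _, ⟨e⟩⟩ := exists_algEquiv_cpl_of_isMaximal R S m M
  refine RingP.congr isFlatLocalProp_regular
    (Algebra.TensorProduct.congr (R := S) σ e.symm).toRingEquiv ?_
  show RingP RegLoc (Q.Fiber (EGA4.Cpl (Localization.AtPrime P)))
  haveI := isNoetherianRing_cpl (Localization.AtPrime P)
  by_cases hQP : Q ≤ P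
  swap
  · haveI := subsingleton_fiber_of_not_le S P (EGA4.Cpl (Localization.AtPrime P)) Q hQP
    exact fun q hq ↦ absurd (Subsingleton.elim q ⊤) hq.ne_top
  let SP := Localization.AtPrime P
  have hd : Disjoint (P.primeCompl : Set S) (Q : Set S) := Set.disjoint_left.mpr fun x hx hx' ↦ hx (hQP hx')
  let Q' := Q.map (algebraMap S SP)
  haveI : Q'.IsPrime := IsLocalization.isPrime_of_isPrime_disjoint P.primeCompl _ Q ‹_› hd
  have hQQ : Q = Q'.comap (algebraMap S SP) :=
    (IsLocalization.under_map_of_isPrime_disjoint P.primeCompl SP ‹_› hd).symm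
  have hs : (algebraMap S SP).SurjectiveOnStalks := RingHom.surjectiveOnStalks_of_isLocalization P.primeCompl SP
  let τ := RingEquiv.ofBijective (resMap Q Q' hQQ) (hs.residueFieldMap_bijective Q Q' hQQ)
  letI : Algebra Q.ResidueField Q'.ResidueField := (resMap Q Q' hQQ).toAlgebra
  let τ' : Q.ResidueField ≃ₐ[Q.ResidueField] Q'.ResidueField := AlgEquiv.ofRingEquiv (f := τ) fun _ ↦ rfl
  let E : Q'.Fiber (EGA4.Cpl SP) ≃+* Q.Fiber (EGA4.Cpl SP) :=
    (((Algebra.TensorProduct.lid Q'.ResidueField (Q'.Fiber (EGA4.Cpl SP))).toRingEquiv.symm.trans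
      (fiberEquiv (IsLocalization.algebraLid P.primeCompl SP (EGA4.Cpl SP)) Q Q' hQQ Q'.ResidueField rfl)).trans
      (Algebra.TensorProduct.congr τ'.symm AlgEquiv.refl).toRingEquiv).trans
      (Algebra.TensorProduct.lid Q.ResidueField (Q.Fiber (EGA4.Cpl SP))).toRingEquiv
  haveI := isNoetherianRing_fiber SP (EGA4.Cpl SP) Q'
  exact RingP.congr isFlatLocalProp_regular E ((GeomRedFibLib.isRegularRing_iff _).mp (h S P Q'))

end

end GRingLib
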