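import Groth.Agent.GRingLib.CompleteLocal
import Groth.Agent.GeomRedFibLib.CplQuot
import Mathlib.Algebra.Polynomial.Expand
import Mathlib.LinearAlgebra.TensorProduct.RightExactness

/-!
# Formal fibres of polynomial rings over regular and complete local domains
-/

set_option autoImplicit false
set_option linter.style.haveILetI false
set_option synthInstance.maxHeartbeats 400000
set_option maxHeartbeats 1600000

universe u

open TensorProduct IsLocalRing GeomRedFibLib Polynomial

namespace GRingLib

noncomputable section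

/-- A prime of a polynomial ring over a domain lying over zero is principal up to nonzero scalars. -/
theorem exists_generator (A : Type u) [CommRing A] [IsDomain A] (r : Ideal A[X])
    (hr : r.comap (C : A →+* A[X]) = ⊥) (hr0 : r ≠ ⊥) :
    ∃ g ∈ r, g ≠ 0 ∧ g.natDegree ≠ 0 ∧ (∀ h ∈ r, h.natDegree < g.natDegree → h = 0) ∧
      ∀ h ∈ r, ∃ s : A, s ≠ 0 ∧ C s * h ∈ Ideal.span {g} := by
  classical
  obtain ⟨g₀, hg₀, hg₀0⟩ := Submodule.exists_mem_ne_zero_of_ne_bot hr0
  have hex : ∃ d, ∃ g ∈ r, g ≠ 0 ∧ g.natDegree = d := ⟨_, g₀, hg₀, hg₀0, rfl⟩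
  obtain ⟨g, hg, hg0, hgd⟩ := Nat.find_spec hex
  have hmin : ∀ h ∈ r, h.natDegree < g.natDegree → h = 0 := fun h hh hlt ↦ by
    by_contra h0
    exact Nat.find_min hex (hgd ▸ hlt) ⟨h, hh, h0, rfl⟩
  refine ⟨g, hg, hg0, fun h0 ↦ ?_, hmin, ?_⟩
  · obtain ⟨a, ha⟩ : ∃ a, g = C a := ⟨_, eq_C_of_natDegree_eq_zero h0⟩
    have h1 : a ∈ r.comap (C : A →+* A[X]) := by show C a ∈ r; rwa [← ha]
    rw [hr, Ideal.mem_bot] at h1
    exact hg0 (by rw [ha, h1, map_zero])
  intro h hh
  induction hd : h.natDegree using Nat.strong_induction_on generalizing h with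
  | _ d ih =>
    by_cases hlt : h.natDegree < g.natDegree
    · exact ⟨1, one_ne_zero, by rw [hmin h hh hlt, mul_zero]; exact zero_mem _⟩
    push Not at hlt
    let t := C h.leadingCoeff * X ^ (h.natDegree - g.natDegree)
    let h' := C g.leadingCoeff * h - t * g
    have hh' : h' ∈ r := sub_mem (r.mul_mem_left _ hh) (r.mul_mem_left _ hg)
    by_cases h'0 : h' = 0
    · refine ⟨g.leadingCoeff, leadingCoeff_ne_zero.mpr hg0, ?_⟩
      rw [sub_eq_zero.mp h'0]
      exact Ideal.mul_mem_left _ _ (Ideal.mem_span_singleton_self g)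
    have hdeg : h'.natDegree < d := by
      by_cases hd0 : d = 0
      · exfalso
        refine h'0 (hmin h' hh' ?_)
        have hg1 : g.natDegree = 0 := by omega
        obtain ⟨a, ha⟩ : ∃ a, g = C a := ⟨_, eq_C_of_natDegree_eq_zero hg1⟩
        have h1 : a ∈ r.comap (C : A →+* A[X]) := by show C a ∈ r; rwa [← ha]
        rw [hr, Ideal.mem_bot] at h1
        exact absurd (by rw [ha, h1, map_zero] : g = 0) hg0
      refine lt_of_le_of_ne (natDegree_le_iff_coeff_eq_zero.mpr fun i hi ↦ ?_) fun he ↦ ?_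
      · have h1 : h.coeff i = 0 := coeff_eq_zero_of_natDegree_lt (by omega)
        have h2 : g.coeff (i - (h.natDegree - g.natDegree)) = 0 := coeff_eq_zero_of_natDegree_lt (by omega)
        simp [h', t, coeff_sub, mul_assoc, coeff_X_pow_mul', h1, h2]
      · apply leadingCoeff_ne_zero.mpr h'0
        rw [leadingCoeff, he, ← hd]
        have h3 : h.natDegree - (h.natDegree - g.natDegree) = g.natDegree := by omega
        simp only [h', t, coeff_sub, coeff_C_mul, mul_assoc, coeff_X_pow_mul']
        rw [if_pos (Nat.sub_le _ _), h3]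
        simp only [leadingCoeff]
        ring
    obtain ⟨s, hs, hsh⟩ := ih _ hdeg h' hh' rfl
    refine ⟨s * g.leadingCoeff, mul_ne_zero hs (leadingCoeff_ne_zero.mpr hg0), ?_⟩
    rw [show C (s * g.leadingCoeff) * h = C s * h' + C s * t * g by rw [map_mul]; simp only [h']; ring]
    exact add_mem hsh (Ideal.mul_mem_left _ _ (Ideal.mem_span_singleton_self g))

/-- The equation of a prime over zero is moved by some derivation. -/
theorem exists_derivation_not_mem (A : Type u) [CommRing A] [IsDomain A]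
    (hder : ∀ (p : ℕ) [Fact p.Prime], CharP A p → HasDer p A) (r : Ideal A[X]) [r.IsPrime]
    (hr : r.comap (C : A →+* A[X]) = ⊥) (g : A[X]) (hg : g ∈ r) (hg0 : g ≠ 0) (hgd : g.natDegree ≠ 0)
    (hmin : ∀ h ∈ r, h.natDegree < g.natDegree → h = 0) :
    ∃ D : Derivation ℤ A[X] A[X], D g ∉ r := by
  classical
  by_cases hd : derivative g = 0
  swap
  · refine ⟨(Polynomial.derivative' (R := A)).restrictScalars ℤ, fun hmem ↦ hd (hmin _ hmem ?_)⟩
    exact natDegree_derivative_lt hgd
  obtain ⟨p, hp⟩ := CharP.exists A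
  let c := g.leadingCoeff
  let d := g.natDegree
  have hc : c ≠ 0 := leadingCoeff_ne_zero.mpr hg0
  rcases CharP.char_is_prime_or_zero A p with hpp | rfl
  swap
  · haveI := CharP.charP_to_charZero A
    exact absurd (natDegree_eq_zero_of_derivative_eq_zero hd) hgd
  haveI : Fact p.Prime := ⟨hpp⟩
  haveI : ExpChar A p := ExpChar.prime hpp
  obtain ⟨g', hg'⟩ : ∃ g', expand A p g' = g := ⟨contract p g, expand_contract p hd hpp.ne_zero⟩
  have hp1 : p = (p - 1) + 1 := by have := hpp.pos; omega
  by_cases hall : ∀ i, ∃ y : FractionRing A, y ^ p = algebraMap A (FractionRing A) (g'.coeff i * c ^ (p - 1))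
  · exfalso
    choose y hy using hall
    obtain ⟨⟨e, he⟩, hey⟩ := IsLocalization.exist_integer_multiples (nonZeroDivisors A)
      (Finset.range (g'.natDegree + 1)) y
    choose z hz using hey
    let w : ℕ → A := fun i ↦ if hi : i ∈ Finset.range (g'.natDegree + 1) then z i hi else 0
    have hw : ∀ i ∈ Finset.range (g'.natDegree + 1), w i ^ p = e ^ p * (g'.coeff i * c ^ (p - 1)) := fun i hi ↦ by
      apply IsFractionRing.injective A (FractionRing A)
      simp only [w, dif_pos hi]
      rw [map_pow, hz i hi, map_mul, map_pow, ← hy, ← mul_pow, Algebra.smul_def]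
    let H : A[X] := ∑ i ∈ Finset.range (g'.natDegree + 1), monomial i (w i)
    have hH : H ^ p = C (e ^ p * c ^ (p - 1)) * g := by
      rw [← hg', show H ^ p = expand A p (H.map (frobenius A p)) by rw [← map_expand, map_frobenius_expand]]
      · rw [show C (e ^ p * c ^ (p - 1)) * expand A p g' = expand A p (C (e ^ p * c ^ (p - 1)) * g') by
          simp [expand_C]]
        congr 1
        conv_rhs => rw [g'.as_sum_range, Finset.mul_sum]
        rw [Polynomial.map_sum]
        refine Finset.sum_congr rfl fun i hi ↦ ?_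
        rw [map_monomial, frobenius_def, C_mul_monomial, hw i hi]
        congr 1
        ring
    have hHr : H ∈ r := (inferInstance : r.IsPrime).mem_of_pow_mem p (hH ▸ r.mul_mem_left _ hg)
    have hdeg : H.natDegree ≤ g'.natDegree := natDegree_sum_le_of_forall_le _ _ fun i hi ↦
      (natDegree_monomial_le _).trans (by rw [Finset.mem_range] at hi; omega)
    have hgd' : g.natDegree = g'.natDegree * p := by rw [← hg', natDegree_expand]
    have hH0 : H = 0 := hmin H hHr (by
      have hpos : 0 < g'.natDegree := Nat.pos_of_ne_zero fun h ↦ hgd (by rw [hgd', h, zero_mul])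
      have := Nat.mul_le_mul_left g'.natDegree hpp.two_le
      omega)
    have he0 : e ≠ 0 := nonZeroDivisors.ne_zero he
    rw [hH0, zero_pow hpp.ne_zero] at hH
    rcases mul_eq_zero.mp hH.symm with h | h
    · rw [C_eq_zero, mul_eq_zero] at h
      exact h.elim (pow_ne_zero _ he0) (pow_ne_zero _ hc)
    · exact hg0 h
  push Not at hall
  obtain ⟨i, hi⟩ := hall
  obtain ⟨δ, hδ⟩ := hder p inferInstance A Function.injective_id _ hi
  let DX : Derivation ℤ A[X] A[X] := PolynomialModule.equivPolynomialSelf.compDer δ.mapCoeffs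
  have hDX : ∀ (f : A[X]) j, (DX f).coeff j = δ (f.coeff j) := fun f j ↦ Derivation.mapCoeffs_apply δ f j
  refine ⟨DX, fun hmem ↦ hδ ?_⟩
  let h := C c * DX g - C (δ c) * g
  have hhr : h ∈ r := sub_mem (r.mul_mem_left _ hmem) (r.mul_mem_left _ hg)
  have hlt : h.natDegree < g.natDegree := by
    refine lt_of_le_of_ne (natDegree_le_iff_coeff_eq_zero.mpr fun j hj ↦ ?_) fun heq ↦ ?_
    · simp [h, hDX, coeff_eq_zero_of_natDegree_lt hj]
    · have h0 : h.coeff g.natDegree = 0 := by simp [h, hDX, c, Polynomial.coeff_natDegree, mul_comm]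
      rw [← heq] at h0
      have : h = 0 := leadingCoeff_eq_zero.mp h0
      exact hgd (by rw [← heq, this, natDegree_zero])
  have h0 : c * δ (g.coeff (i * p)) - δ c * g.coeff (i * p) = 0 := by
    have h1 : h.coeff (i * p) = 0 := by rw [hmin h hhr hlt, coeff_zero]
    simpa [h, hDX] using h1
  rw [← hg', coeff_expand_mul hpp.pos] at h0
  have hcp : (((p - 1 : ℕ) : A)) = -1 := by
    rw [eq_neg_iff_add_eq_zero]
    have h := congrArg (Nat.cast : ℕ → A) hp1
    rw [Nat.cast_add, Nat.cast_one, CharP.cast_eq_zero] at h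
    exact h.symm
  rw [Derivation.leibniz, Derivation.leibniz_pow, smul_eq_mul, smul_eq_mul, nsmul_eq_mul, smul_eq_mul, hcp]
  have hp2 : p - 1 = (p - 1 - 1) + 1 := by have := hpp.two_le; omega
  rw [show c ^ (p - 1) = c ^ (p - 1 - 1) * c by rw [← pow_succ, ← hp2]]
  linear_combination (c ^ (p - 1 - 1)) * h0

/-- A quotient at a point where the kernel is generated by an element moved by a derivation is regular. -/
theorem isRegularLocalRing_of_surjective (R T : Type u) [CommRing R] [CommRing T] (π : R →+* T)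
    (hπ : Function.Surjective π) (q : Ideal T) [q.IsPrime] [IsRegularLocalRing (Localization.AtPrime (q.comap π))]
    (g : R) (hg : π g = 0) (D : Derivation ℤ R R) (hD : D g ∉ q.comap π)
    (hker : ∀ x, π x = 0 → ∃ s ∉ q.comap π, s * x ∈ Ideal.span {g}) :
    IsRegularLocalRing (Localization.AtPrime q) := by
  let Q₀ := q.comap π
  let RQ := Localization.AtPrime Q₀
  have hgQ : g ∈ Q₀ := by show π g ∈ q; rw [hg]; exact zero_mem _
  obtain ⟨D', hD'⟩ := exists_derivation_localization Q₀.primeCompl RQ D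
  haveI := isRegularLocalRing_quotient_of_derivation RQ (algebraMap R RQ g)
    ((IsLocalization.AtPrime.to_map_mem_maximal_iff RQ Q₀ g).mpr hgQ) D' (by
      rw [hD', IsLocalization.AtPrime.to_map_mem_maximal_iff RQ Q₀]
      exact hD)
  let χ : RQ →+* Localization.AtPrime q := Localization.localRingHom Q₀ q π rfl
  have hχ : Function.Surjective χ := RingHom.surjectiveOnStalks_of_surjective hπ q inferInstance
  have hkerχ : RingHom.ker χ = Ideal.span {algebraMap R RQ g} := by
    refine le_antisymm (fun z hz ↦ ?_) ((Ideal.span_singleton_le_iff_mem _).mpr (by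
      rw [RingHom.mem_ker, Localization.localRingHom_to_map, hg, map_zero]))
    obtain ⟨⟨b, s⟩, hbs⟩ := IsLocalization.surj Q₀.primeCompl z
    have h1 : algebraMap T (Localization.AtPrime q) (π b) = 0 := by
      rw [← Localization.localRingHom_to_map Q₀ q π rfl, ← hbs, map_mul, RingHom.mem_ker.mp hz, zero_mul]
    obtain ⟨⟨t, ht⟩, ht0⟩ := (IsLocalization.map_eq_zero_iff q.primeCompl _ _).mp h1
    obtain ⟨t', rfl⟩ := hπ t
    change π t' * π b = 0 at ht0
    rw [← map_mul] at ht0
    obtain ⟨s', hs', hs'b⟩ := hker _ ht0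
    obtain ⟨c, hc⟩ := Ideal.mem_span_singleton.mp hs'b
    refine Ideal.mem_span_singleton.mpr ?_
    have hu : IsUnit (algebraMap R RQ (s' * (t' * s))) := IsLocalization.map_units RQ
      (⟨s' * (t' * s), Q₀.primeCompl.mul_mem hs' (Q₀.primeCompl.mul_mem ht s.2)⟩ : Q₀.primeCompl)
    rw [← hu.dvd_mul_right, map_mul, map_mul, mul_comm z, mul_assoc, mul_assoc, mul_comm _ z, hbs,
      ← map_mul, ← map_mul, hc, map_mul]
    exact dvd_mul_right _ _
  exact IsRegularLocalRing.of_ringEquiv (R := RQ ⧸ Ideal.span {algebraMap R RQ g})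
    ((Ideal.quotEquivOfEq hkerχ).symm.trans (RingHom.quotientKerEquivOfSurjective hχ))

/-- The generic formal fibre of a hypersurface-like quotient of a regular local ring is regular. -/
theorem ringP_generic_quotient (B S : Type u) [CommRing B] [IsRegularLocalRing B] [CommRing S] [IsDomain S]
    [IsLocalRing S] [Algebra B S] (hs : Function.Surjective (algebraMap B S))
    (g : B) (hg : algebraMap B S g = 0) (D : Derivation ℤ B B) (hD : algebraMap B S (D g) ≠ 0)
    (hker : ∀ x, algebraMap B S x = 0 → ∃ s, algebraMap B S s ≠ 0 ∧ s * x ∈ Ideal.span {g}) :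
    RingP RegLoc (FractionRing S ⊗[S] EGA4.Cpl S) := by
  let Bh := EGA4.Cpl B
  haveI := isNoetherianRing_cpl B
  haveI : IsRegularLocalRing Bh := (Groth.Agent.S0548.result B).mp inferInstance
  haveI : IsRegularRing Bh := CommAlgDim.isRegularRing_of_isRegularLocalRing _
  obtain ⟨e⟩ := exists_cplSurjEquiv B S hs
  obtain ⟨Dh, hDh⟩ := exists_derivation_completion B (maximalIdeal B) D
  refine RingP.congr isFlatLocalProp_regular
    ((Algebra.TensorProduct.cancelBaseChange B S S (FractionRing S) Bh).symm.trans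
      (Algebra.TensorProduct.congr (AlgEquiv.refl : FractionRing S ≃ₐ[S] FractionRing S) e)).toRingEquiv ?_
  refine (ringP_fractionRing_iff isFlatLocalProp_regular B Bh S (FractionRing S)).mpr fun q _ hq ↦ ?_
  let π : Bh →+* S ⊗[B] Bh := (Algebra.TensorProduct.includeRight : Bh →ₐ[B] S ⊗[B] Bh).toRingHom
  have hπ : ∀ b : B, π (algebraMap B Bh b) = algebraMap B S b ⊗ₜ 1 := fun b ↦
    (Algebra.TensorProduct.includeRight : Bh →ₐ[B] S ⊗[B] Bh).commutes b
  have hπs : Function.Surjective π := fun z ↦ by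
    induction z using TensorProduct.induction_on with
    | zero => exact ⟨0, map_zero _⟩
    | add x y hx hy =>
      obtain ⟨a, rfl⟩ := hx; obtain ⟨b, rfl⟩ := hy
      exact ⟨a + b, map_add _ _ _⟩
    | tmul x y =>
      obtain ⟨b, rfl⟩ := hs x
      exact ⟨algebraMap B Bh b * y, by
        rw [map_mul, hπ]
        show _ * ((1 : S) ⊗ₜ[B] y) = _
        rw [Algebra.TensorProduct.tmul_mul_tmul, one_mul, mul_one]⟩
  have hnot : ∀ b : B, algebraMap B S b ≠ 0 → algebraMap B Bh b ∉ q.comap π := fun b hb h ↦ hb (by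
    have h1 : algebraMap B S b ∈ q.comap (algebraMap S (S ⊗[B] Bh)) := by
      show algebraMap B S b ⊗ₜ[B] (1 : Bh) ∈ q
      rw [← hπ]; exact h
    rwa [hq] at h1)
  haveI : IsRegularLocalRing (Localization.AtPrime (q.comap π)) :=
    IsRegularRing.isRegularLocalRing_localization (R := Bh) _
  refine isRegularLocalRing_of_surjective Bh (S ⊗[B] Bh) π hπs q (algebraMap B Bh g)
    (by rw [hπ, hg, TensorProduct.zero_tmul]) (conjDer (RingEquiv.refl Bh) Dh) (by
      rw [show algebraMap B Bh g = RingEquiv.refl Bh (algebraMap B Bh g) from rfl, conjDer_apply, hDh]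
      exact hnot _ hD) fun x hx ↦ ?_
  let J : Ideal Bh := (RingHom.ker (algebraMap B S)).map (algebraMap B Bh)
  have hxJ : x ∈ J := by
    have h1 : (1 : B) ⊗ₜ[B] x ∈ RingHom.ker (Algebra.TensorProduct.map (Algebra.ofId B S) (AlgHom.id B Bh)) := by
      show Algebra.TensorProduct.map (Algebra.ofId B S) (AlgHom.id B Bh) ((1 : B) ⊗ₜ[B] x) = 0
      rw [Algebra.TensorProduct.map_tmul, map_one]
      exact hx
    rw [Algebra.TensorProduct.rTensor_ker (Algebra.ofId B S) hs] at h1
    have h2 := Ideal.mem_map_of_mem (Algebra.TensorProduct.lid B Bh).toAlgHom.toRingHom h1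
    have h3 : (Algebra.TensorProduct.lid B Bh).toAlgHom.toRingHom ((1 : B) ⊗ₜ[B] x) = x := by simp
    rw [h3] at h2
    refine (Ideal.map_le_iff_le_comap.mpr (Ideal.map_le_iff_le_comap.mpr fun b hb ↦ ?_)) h2
    show Algebra.TensorProduct.lid B Bh (b ⊗ₜ[B] (1 : Bh)) ∈ J
    rw [Algebra.TensorProduct.lid_tmul, ← Algebra.algebraMap_eq_smul_one]
    exact Ideal.mem_map_of_mem _ hb
  clear hx
  induction hxJ using Submodule.span_induction with
  | mem z hz =>
    obtain ⟨b, hb, rfl⟩ := hz
    obtain ⟨s, hs, hsb⟩ := hker b hb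
    obtain ⟨c, hc⟩ := Ideal.mem_span_singleton.mp hsb
    exact ⟨_, hnot s hs, Ideal.mem_span_singleton.mpr ⟨algebraMap B Bh c, by rw [← map_mul, hc, map_mul]⟩⟩
  | zero => exact ⟨1, fun h ↦ Ideal.IsPrime.ne_top inferInstance ((Ideal.eq_top_iff_one _).mpr h),
      by rw [mul_zero]; exact zero_mem _⟩
  | add a b _ _ ha hb =>
    obtain ⟨s, hs, ha⟩ := ha
    obtain ⟨t, ht, hb⟩ := hb
    refine ⟨s * t, (q.comap π).primeCompl.mul_mem hs ht, ?_⟩
    rw [show s * t * (a + b) = t * (s * a) + s * (t * b) by ring]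
    exact add_mem (Ideal.mul_mem_left _ _ ha) (Ideal.mul_mem_left _ _ hb)
  | smul c a _ ha =>
    obtain ⟨s, hs, ha⟩ := ha
    refine ⟨s, hs, ?_⟩
    rw [smul_eq_mul, mul_left_comm]
    exact Ideal.mul_mem_left _ _ ha

/-- The fraction field of a finite type domain generated by one algebraic element is finite. -/
theorem finiteDimensional_of_root (A C : Type u) [CommRing A] [IsDomain A] [CommRing C] [IsDomain C] [Algebra A C]
    [Algebra A[X] C] [IsScalarTower A A[X] C] (hs : Function.Surjective (algebraMap A[X] C)) (g : A[X]) (hg0 : g ≠ 0)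
    (hg : algebraMap A[X] C g = 0) (K L : Type u) [Field K] [Field L] [Algebra A K] [IsFractionRing A K]
    [Algebra C L] [IsFractionRing C L] [Algebra A L] [IsScalarTower A C L] [Algebra K L] [IsScalarTower A K L] :
    FiniteDimensional K L := by
  let x : L := algebraMap C L (algebraMap A[X] C X)
  have hx : ∀ f : A[X], aeval x f = algebraMap C L (algebraMap A[X] C f) := fun f ↦ by
    have h : (aeval x : A[X] →ₐ[A] L) = (IsScalarTower.toAlgHom A C L).comp (IsScalarTower.toAlgHom A A[X] C) :=
      Polynomial.algHom_ext (by simp [x])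
    exact AlgHom.congr_fun h f
  have hint : IsIntegral K x := by
    refine (show IsAlgebraic K x from ⟨g.map (algebraMap A K),
      (Polynomial.map_ne_zero_iff (IsFractionRing.injective A K)).mpr hg0, ?_⟩).isIntegral
    rw [aeval_map_algebraMap, hx, hg, map_zero]
  let E := Algebra.adjoin K ({x} : Set L)
  haveI : FiniteDimensional K E :=
    ⟨(Submodule.fg_top _).mpr (fg_adjoin_of_finite (Set.finite_singleton x) fun y hy ↦ by
      rw [Set.mem_singleton_iff] at hy; exact hy ▸ hint)⟩
  have hC : ∀ c : C, algebraMap C L c ∈ E := fun c ↦ by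
    obtain ⟨f, rfl⟩ := hs c
    rw [← hx, ← aeval_map_algebraMap K]
    exact Polynomial.aeval_mem_adjoin_singleton K x
  have htop : E = ⊤ := eq_top_iff.mpr fun z _ ↦ by
    obtain ⟨a, b, -, rfl⟩ := IsFractionRing.div_surjective C z
    rw [div_eq_mul_inv]
    exact mul_mem (hC a) (Subalgebra.inv_mem_of_algebraic E (x := ⟨_, hC b⟩)
      (((Algebra.IsIntegral.of_finite K E).isIntegral (⟨_, hC b⟩ : E)).map E.val).isAlgebraic)
  refine ⟨?_⟩
  rw [← Algebra.top_toSubmodule, ← htop]
  exact fg_adjoin_of_finite (Set.finite_singleton x) fun y hy ↦ by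
    rw [Set.mem_singleton_iff] at hy; exact hy ▸ hint

/-- Primes over zero in polynomial rings over regular domains with `p`-families. -/
theorem genReg_poly_regular (A : Type u) [CommRing A] [IsDomain A] [IsRegularRing A]
    (hfam : ∀ (p : ℕ) [Fact p.Prime], CharP A p → HasPFamily p A) (r : Ideal A[X]) [r.IsPrime]
    (hr : r.comap (C : A →+* A[X]) = ⊥) (P : Ideal (A[X] ⧸ r)) [P.IsPrime] :
    GenReg (Localization.AtPrime P) (EGA4.Cpl (Localization.AtPrime P)) := by
  have hCinj : Function.Injective (algebraMap A A[X]) := C_injective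
  have hfamX : ∀ (p : ℕ) [Fact p.Prime], CharP A[X] p → HasPFamily p A[X] := fun p _ hp ↦ by
    haveI : CharP A p := (RingHom.charP_iff _ hCinj p).mpr hp
    exact hasPFamily_polynomial p A (hfam p inferInstance)
  by_cases hr0 : r = ⊥
  · subst hr0
    let e := (RingEquiv.quotientBot A[X]).symm
    haveI : IsRegularRing (A[X] ⧸ (⊥ : Ideal A[X])) := IsRegularRing.of_ringEquiv (R := A[X]) e
    refine genReg_of_regular _ (fun p _ hp ↦ ?_) P
    haveI : CharP A[X] p := (RingHom.charP_iff e.toRingHom e.injective p).mpr hp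
    exact hasDer_self p _ (hasPFamily_ringEquiv p e (hfamX p inferInstance))
  obtain ⟨g, hg, hg0, hgd, hmin, hgen⟩ := exists_generator A r hr hr0
  obtain ⟨D₀, hD₀⟩ := exists_derivation_not_mem A (fun p _ hp ↦ hasDer_self p A (hfam p hp)) r hr g hg hg0 hgd hmin
  let T := A[X] ⧸ r
  let S := Localization.AtPrime P
  let Q := P.comap (Ideal.Quotient.mk r)
  let B := Localization.AtPrime Q
  haveI : IsDomain S := IsLocalization.isDomain_localization P.primeCompl_le_nonZeroDivisors
  haveI : IsRegularLocalRing B := IsRegularRing.isRegularLocalRing_localization (R := A[X]) Q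
  have hAT : Function.Injective (algebraMap A T) := (injective_iff_map_eq_zero _).mpr fun a ha ↦ by
    have ha' : Ideal.Quotient.mk r (C a) = 0 := ha
    have h : a ∈ r.comap (C : A →+* A[X]) := (Ideal.Quotient.eq_zero_iff_mem (I := r)).mp ha'
    rwa [hr] at h
  letI : Algebra B S := (Localization.localRingHom Q P (Ideal.Quotient.mk r) rfl).toAlgebra
  have hBS : Function.Surjective (algebraMap B S) :=
    RingHom.surjectiveOnStalks_of_surjective Ideal.Quotient.mk_surjective P inferInstance
  have hto : ∀ f : A[X], algebraMap B S (algebraMap A[X] B f) = algebraMap T S (Ideal.Quotient.mk r f) :=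
    fun f ↦ Localization.localRingHom_to_map Q P _ rfl f
  have hTS : Function.Injective (algebraMap T S) := IsLocalization.injective S P.primeCompl_le_nonZeroDivisors
  obtain ⟨D, hD⟩ := exists_derivation_localization Q.primeCompl B D₀
  refine genReg_of S ?_ fun p _ hp ↦ ?_
  · refine ringP_generic_quotient B S hBS (algebraMap A[X] B g) (by
      rw [hto, Ideal.Quotient.eq_zero_iff_mem.mpr hg, map_zero]) D (by
      rw [hD, hto, map_ne_zero_iff _ hTS, Ne, Ideal.Quotient.eq_zero_iff_mem]
      exact hD₀) fun x hx ↦ ?_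
    obtain ⟨⟨f, u⟩, hfu⟩ := IsLocalization.surj Q.primeCompl x
    have hf : f ∈ r := by
      rw [← Ideal.Quotient.eq_zero_iff_mem, ← map_eq_zero_iff _ hTS, ← hto, ← hfu, map_mul, hx, zero_mul]
    obtain ⟨s, hs, hsf⟩ := hgen f hf
    obtain ⟨c, hc⟩ := Ideal.mem_span_singleton.mp hsf
    refine ⟨algebraMap A[X] B (C s), ?_, ?_⟩
    · rw [hto, map_ne_zero_iff _ hTS, Ne, Ideal.Quotient.eq_zero_iff_mem]
      intro h
      exact hs (by rw [← Ideal.mem_bot, ← hr]; exact h)
    · have hu := IsLocalization.map_units B u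
      rw [← Ideal.mul_unit_mem_iff_mem _ hu, mul_assoc, hfu, ← map_mul, hc, map_mul]
      exact Ideal.mul_mem_right _ _ (Ideal.mem_span_singleton_self _)
  haveI : CharP T p := (RingHom.charP_iff _ hTS p).mpr hp
  haveI : CharP A p := (RingHom.charP_iff _ hAT p).mpr inferInstance
  haveI : FaithfulSMul A (FractionRing T) := CplExcLib.faithfulSMul_fractionRing A T hAT
  letI := FractionRing.liftAlgebra A (FractionRing T)
  have hfd : FiniteDimensional (FractionRing A) (FractionRing T) :=
    finiteDimensional_of_root A T Ideal.Quotient.mk_surjective g hg0 (Ideal.Quotient.eq_zero_iff_mem.mpr hg) _ _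
  exact hasDer_localization p T (hasDer_of_pFamily p A T (hfam p inferInstance) hAT hfd) P.primeCompl
    P.primeCompl_le_nonZeroDivisors S

/-- Primes over zero in polynomial rings over complete local domains. -/
theorem genReg_poly_complete (A : Type u) [CommRing A] [IsDomain A] [IsLocalRing A] [IsNoetherianRing A]
    [IsAdicComplete (maximalIdeal A) A] (r : Ideal A[X]) [r.IsPrime] (hr : r.comap (C : A →+* A[X]) = ⊥)
    (P : Ideal (A[X] ⧸ r)) [P.IsPrime] : GenReg (Localization.AtPrime P) (EGA4.Cpl (Localization.AtPrime P)) := by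
  obtain ⟨R, _, f, _, _, hinj, hfin, hfam⟩ := exists_regular_base A
  let φ : R[X] →+* A[X] := mapRingHom f
  let r₀ := r.comap φ
  haveI : r₀.IsPrime := Ideal.IsPrime.comap _
  have hr₀ : r₀.comap (C : R →+* R[X]) = ⊥ := by
    refine eq_bot_iff.mpr fun a ha ↦ hinj ?_
    have h : f a ∈ r.comap (C : A →+* A[X]) := by
      show C (f a) ∈ r
      have h' : φ (C a) ∈ r := ha
      rwa [show φ (C a) = C (f a) from Polynomial.map_C f] at h'
    rw [hr, Ideal.mem_bot] at h
    rw [h, map_zero]
  let ψ : R[X] ⧸ r₀ →+* A[X] ⧸ r := Ideal.quotientMap r φ le_rfl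
  letI := ψ.toAlgebra
  haveI : Module.Finite (R[X] ⧸ r₀) (A[X] ⧸ r) := by
    have h1 : φ.Finite := by
      letI := f.toAlgebra
      haveI : Module.Finite R A := hfin
      letI : Algebra R[X] A[X] := φ.toAlgebra
      haveI : Algebra.IsPushout R R[X] A A[X] := inferInstance
      have := Module.Finite.equiv (Algebra.IsPushout.equiv R R[X] A A[X]).toLinearEquiv
      exact this
    have h2 : ((Ideal.Quotient.mk r).comp φ).Finite :=
      (RingHom.Finite.of_surjective _ Ideal.Quotient.mk_surjective).comp h1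
    have h3 : ψ.Finite := RingHom.Finite.of_comp_finite (f := Ideal.Quotient.mk r₀)
      ((show ψ.comp (Ideal.Quotient.mk r₀) = (Ideal.Quotient.mk r).comp φ from Ideal.quotientMap_comp_mk _) ▸ h2)
    exact h3
  haveI : IsNoetherianRing (R[X] ⧸ r₀) := inferInstance
  exact genReg_of_finite (R[X] ⧸ r₀) (A[X] ⧸ r) Ideal.quotientMap_injective P
    (genReg_poly_regular R (fun p _ hp ↦ hfam p hp) r₀ hr₀ _)

end

end GRingLib
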