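import Groth.Agent.GRingLib.Transfer
import Groth.Agent.GeomRedFibLib.GRing
import Mathlib.RingTheory.ZariskisMainTheorem

/-!
# Formal fibres along quasi-finite maps
-/

set_option autoImplicit false
set_option linter.style.haveILetI false
set_option synthInstance.maxHeartbeats 400000
set_option maxHeartbeats 1600000

universe u

open TensorProduct IsLocalRing GeomRedFibLib CAlg

namespace GRingLib

noncomputable section

variable (R : Type u) [CommRing R] [IsNoetherianRing R]

/-- Geometric regularity of one formal fibre ascends along finite algebras. -/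
theorem isGeometricallyRegular_fiber_cpl_of_finite (A : Type u) [CommRing A] [Algebra R A] [Module.Finite R A]
    (P : Ideal A) [P.IsPrime] (Q : Ideal A) [Q.IsPrime]
    (h : IsGeometricallyRegular (Q.comap (algebraMap R A)).ResidueField
      ((Q.comap (algebraMap R A)).Fiber (EGA4.Cpl (Localization.AtPrime (P.comap (algebraMap R A)))))) :
    IsGeometricallyRegular Q.ResidueField (Q.Fiber (EGA4.Cpl (Localization.AtPrime P))) := by
  let Q₀ := Q.comap (algebraMap R A)
  let C₀ := EGA4.Cpl (Localization.AtPrime (P.comap (algebraMap R A)))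
  haveI : IsNoetherianRing A := IsNoetherianRing.of_finite R A
  haveI := isNoetherianRing_cpl (Localization.AtPrime (P.comap (algebraMap R A)))
  haveI := isNoetherianRing_cpl (Localization.AtPrime P)
  haveI := isNoetherianRing_fiber R C₀ Q₀
  haveI := isNoetherianRing_fiber A (EGA4.Cpl (Localization.AtPrime P)) Q
  obtain ⟨M, _, ⟨e⟩⟩ := exists_algEquiv_cpl R A P
  intro k' _ _ hk
  haveI := hk
  rw [isRegularRing_finite_bc_iff]
  letI : Algebra Q₀.ResidueField Q.ResidueField := (resMap Q₀ Q rfl).toAlgebra
  haveI : IsScalarTower R Q₀.ResidueField Q.ResidueField := .of_algebraMap_eq fun r ↦ by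
    rw [RingHom.algebraMap_toAlgebra, IsScalarTower.algebraMap_apply R A Q.ResidueField]
    exact (Ideal.ResidueField.map_algebraMap Q₀ Q _ rfl r).symm
  letI : Algebra A k' := ((algebraMap Q.ResidueField k').comp (algebraMap A Q.ResidueField)).toAlgebra
  haveI : IsScalarTower A Q.ResidueField k' := .of_algebraMap_eq fun _ ↦ rfl
  letI : Algebra R k' := ((algebraMap A k').comp (algebraMap R A)).toAlgebra
  haveI : IsScalarTower R A k' := .of_algebraMap_eq fun _ ↦ rfl
  letI : Algebra Q₀.ResidueField k' :=
    ((algebraMap Q.ResidueField k').comp (algebraMap Q₀.ResidueField Q.ResidueField)).toAlgebra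
  haveI : IsScalarTower Q₀.ResidueField Q.ResidueField k' := .of_algebraMap_eq fun _ ↦ rfl
  haveI : IsScalarTower R Q₀.ResidueField k' := .of_algebraMap_eq fun r ↦ by
    show algebraMap Q.ResidueField k' (algebraMap A Q.ResidueField (algebraMap R A r)) =
      algebraMap Q.ResidueField k' (algebraMap Q₀.ResidueField Q.ResidueField (algebraMap R Q₀.ResidueField r))
    rw [← IsScalarTower.algebraMap_apply R Q₀.ResidueField Q.ResidueField,
      ← IsScalarTower.algebraMap_apply R A Q.ResidueField]
  haveI : Algebra.QuasiFinite R A := inferInstance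
  haveI : Q.LiesOver Q₀ := ⟨rfl⟩
  haveI : Algebra.QuasiFinite Q₀.ResidueField Q.ResidueField := .of_restrictScalars R _ _
  haveI : Module.Finite Q₀.ResidueField Q.ResidueField := .of_quasiFinite
  haveI : Module.Finite Q₀.ResidueField k' := Module.Finite.trans Q.ResidueField k'
  have h1 : RingP RegLoc (k' ⊗[R] C₀) := RingP.congr isFlatLocalProp_regular
    (Algebra.TensorProduct.cancelBaseChange R Q₀.ResidueField Q₀.ResidueField k' C₀).toRingEquiv
    ((isRegularRing_finite_bc_iff _ _ _).mp (h k' inferInstance))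
  let H := A ⊗[R] C₀
  have h2 : RingP RegLoc (k' ⊗[A] H) := RingP.congr isFlatLocalProp_regular
    (Algebra.TensorProduct.cancelBaseChange R A A k' C₀).toRingEquiv.symm h1
  let HM := Localization.AtPrime M
  letI : Algebra (k' ⊗[A] H) (k' ⊗[A] HM) :=
    (Algebra.TensorProduct.map (AlgHom.id A k') (IsScalarTower.toAlgHom A H HM)).toAlgebra
  haveI : IsScalarTower k' (k' ⊗[A] H) (k' ⊗[A] HM) :=
    IsScalarTower.of_algebraMap_eq (R := k') (S := k' ⊗[A] H) (A := k' ⊗[A] HM) fun x ↦ by
      show x ⊗ₜ[A] (1 : HM) = (Algebra.TensorProduct.map (AlgHom.id A k') (IsScalarTower.toAlgHom A H HM))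
        (x ⊗ₜ[A] (1 : H))
      rw [Algebra.TensorProduct.map_tmul, map_one]
      rfl
  have hloc := IsLocalization.tensorProduct_tensorProduct_right A k' M.primeCompl HM
    (RingHom.ext fun z ↦ show (Algebra.TensorProduct.map (AlgHom.id A k') (IsScalarTower.toAlgHom A H HM))
      ((1 : k') ⊗ₜ[A] z) = (1 : k') ⊗ₜ[A] algebraMap H HM z by rw [Algebra.TensorProduct.map_tmul]; rfl)
  have h3 : RingP RegLoc (k' ⊗[A] EGA4.Cpl (Localization.AtPrime P)) := RingP.congr isFlatLocalProp_regular
    (Algebra.TensorProduct.congr (AlgEquiv.refl : k' ≃ₐ[A] k') e).toRingEquiv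
    (@ringP_localization RegLoc isFlatLocalProp_regular (k' ⊗[A] H) _ _ (k' ⊗[A] HM) _ _ hloc h2)
  exact RingP.congr isFlatLocalProp_regular
    (Algebra.TensorProduct.cancelBaseChange A Q.ResidueField Q.ResidueField k'
      (EGA4.Cpl (Localization.AtPrime P))).toRingEquiv.symm h3

/-- Geometric regularity of one formal fibre ascends along maps quasi-finite at a prime. -/
theorem isGeometricallyRegular_formalFibre_of_quasiFiniteAt (R' : Type u) [CommRing R'] [IsNoetherianRing R']
    [Algebra R R'] [Algebra.FiniteType R R'] (p' : Ideal R') [p'.IsPrime] [Algebra.QuasiFiniteAt R p']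
    (Q' : Ideal (Localization.AtPrime p')) [Q'.IsPrime]
    (Q : Ideal (Localization.AtPrime (p'.comap (algebraMap R R')))) [Q.IsPrime]
    (hQ : Q.comap (algebraMap R (Localization.AtPrime (p'.comap (algebraMap R R')))) =
      Q'.comap (algebraMap R (Localization.AtPrime p')))
    (h : IsGeometricallyRegular Q.ResidueField
      (EGA4.formalFibre (Localization.AtPrime (p'.comap (algebraMap R R'))) Q)) :
    IsGeometricallyRegular Q'.ResidueField (EGA4.formalFibre (Localization.AtPrime p') Q') := by
  obtain ⟨A, hA, r, hrp, hbij⟩ := Algebra.QuasiFiniteAt.exists_fg_and_exists_notMem_and_awayMap_bijective (R := R) p'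
  haveI : Module.Finite R A := Module.Finite.iff_fg.mpr hA
  haveI : IsNoetherianRing A := IsNoetherianRing.of_finite R A
  let L' := Localization.AtPrime p'
  let P := p'.comap (algebraMap A R')
  have hfrac : ∀ a : R', ∃ (n : ℕ) (γ : A), a * (r : R') ^ n = γ := by
    intro a
    obtain ⟨y, hy⟩ := hbij.2 (algebraMap R' (Localization.Away (A.val.toRingHom r)) a)
    obtain ⟨γ, ⟨_, m, rfl⟩, rfl⟩ := IsLocalization.exists_mk'_eq (Submonoid.powers r) y
    rw [Localization.awayMap, IsLocalization.Away.map, IsLocalization.map_mk', IsLocalization.mk'_eq_iff_eq_mul,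
      ← map_mul, IsLocalization.eq_iff_exists (Submonoid.powers (A.val.toRingHom r))] at hy
    obtain ⟨⟨_, k, rfl⟩, hk⟩ := hy
    refine ⟨k + m, r ^ k * γ, ?_⟩
    have hk' : (r : R') ^ k * (γ : R') = (r : R') ^ k * (a * (r : R') ^ m) := by simpa using hk
    push_cast
    rw [hk', pow_add]
    ring
  haveI : IsLocalization.AtPrime L' P := by
    rw [IsLocalization.AtPrime, isLocalization_iff]
    refine ⟨fun s ↦ ?_, fun z ↦ ?_, fun {x y} hxy ↦ ?_⟩
    · rw [IsScalarTower.algebraMap_apply A R' L']
      exact IsLocalization.map_units L' (⟨algebraMap A R' s, s.2⟩ : p'.primeCompl)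
    · obtain ⟨⟨a, b⟩, hab⟩ := IsLocalization.surj p'.primeCompl z
      obtain ⟨n, α, hα⟩ := hfrac a
      obtain ⟨m, β, hβ⟩ := hfrac b
      have hβP : β * r ^ n ∈ P.primeCompl := by
        show algebraMap A R' (β * r ^ n) ∉ p'
        rw [map_mul, map_pow]
        refine mul_mem (s := p'.primeCompl) ?_ (pow_mem (show (r : R') ∈ p'.primeCompl from hrp) _)
        show (β : R') ∈ p'.primeCompl
        rw [← hβ]
        exact mul_mem b.2 (pow_mem (show (r : R') ∈ p'.primeCompl from hrp) _)
      refine ⟨(α * r ^ m, ⟨β * r ^ n, hβP⟩), ?_⟩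
      have hA' : ∀ x : A, algebraMap A L' x = algebraMap R' L' (x : R') := fun x ↦
        IsScalarTower.algebraMap_apply A R' L' x
      show z * algebraMap A L' (β * r ^ n) = algebraMap A L' (α * r ^ m)
      rw [hA', hA']
      push_cast
      rw [← hα, ← hβ]
      simp only [map_mul, map_pow]
      linear_combination (algebraMap R' L' (r : R') ^ m * algebraMap R' L' (r : R') ^ n) * hab
    · rw [IsScalarTower.algebraMap_apply A R' L', IsScalarTower.algebraMap_apply A R' L',
        IsLocalization.eq_iff_exists p'.primeCompl] at hxy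
      obtain ⟨⟨c, hc⟩, hcxy⟩ := hxy
      obtain ⟨n, γ, hγ⟩ := hfrac c
      refine ⟨⟨γ, show (γ : R') ∉ p' from hγ ▸ mul_mem (s := p'.primeCompl) hc (pow_mem hrp _)⟩, Subtype.ext ?_⟩
      show (γ : R') * x = γ * y
      rw [← hγ, mul_comm c, mul_assoc, mul_assoc]
      exact congrArg _ hcxy
  -- the finite algebra
  let AP := Localization.AtPrime P
  let σ : AP ≃ₐ[A] L' := IsLocalization.algEquiv P.primeCompl _ _
  letI : Algebra AP L' := σ.toRingEquiv.toRingHom.toAlgebra
  have hs : Function.Surjective (algebraMap AP L') := σ.surjective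
  obtain ⟨e⟩ := exists_cplSurjEquiv AP L' hs
  let Q₂ := Q'.comap (algebraMap AP L')
  refine (isGeometricallyRegular_fiber_iff e Q₂ Q' (RingHom.surjectiveOnStalks_of_surjective hs) rfl).mpr ?_
  let Q₁ := Q₂.comap (algebraMap A AP)
  refine (isGeometricallyRegular_fiber_iff (IsLocalization.algebraLid P.primeCompl AP (EGA4.Cpl AP)) Q₁ Q₂
    (RingHom.surjectiveOnStalks_of_isLocalization P.primeCompl AP) rfl).mpr ?_
  have hq : Q₁.comap (algebraMap R A) = Q.comap (algebraMap R _) := by
    rw [hQ]
    show ((Q'.comap σ.toRingEquiv.toRingHom).comap (algebraMap A AP)).comap (algebraMap R A) = _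
    rw [Ideal.comap_comap, Ideal.comap_comap]
    congr 1
    exact RingHom.ext fun x ↦ (σ.commutes _).trans (IsScalarTower.algebraMap_apply R A L' x).symm
  have hP : P.comap (algebraMap R A) = p'.comap (algebraMap R R') := Ideal.comap_comap ..
  have key : ∀ (q0 p0 : Ideal R) [q0.IsPrime] [p0.IsPrime], Q₁.comap (algebraMap R A) = q0 →
      P.comap (algebraMap R A) = p0 →
      IsGeometricallyRegular q0.ResidueField (q0.Fiber (EGA4.Cpl (Localization.AtPrime p0))) →
      IsGeometricallyRegular Q₁.ResidueField (Q₁.Fiber (EGA4.Cpl AP)) := by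
    rintro _ _ _ _ rfl rfl h
    exact isGeometricallyRegular_fiber_cpl_of_finite R A P Q₁ h
  exact key _ _ hq hP ((isGeometricallyRegular_fiber_iff
    (IsLocalization.algebraLid (p'.comap (algebraMap R R')).primeCompl _ _) (Q.comap (algebraMap R _)) Q
    (RingHom.surjectiveOnStalks_of_isLocalization (p'.comap (algebraMap R R')).primeCompl _) rfl).mp h)

end

end GRingLib
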